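import Groth.Agent.Lib.FlatStrat53.Sections
import Groth.Agent.Lib.GenFlatten.Scheme
import Groth.Agent.Lib.Flat55.FlatOverAt
import Groth.Agent.Lib.ProjSpace.BaseChange
import Groth.Prelude.Def_FGA

/-!
# Flatness of the pullback of a sheaf on `P^n_S`
-/

set_option autoImplicit false
set_option linter.style.haveILetI false
set_option linter.style.show false

universe u

open CategoryTheory CategoryTheory.Limits AlgebraicGeometry TensorProduct

namespace Groth.Agent.Lib.FlatStrat53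

attribute [local instance] Algebra.TensorProduct.rightAlgebra

variable {n : ℕ} {S : Scheme.{u}} (F : (CohB1.ProjSpaceOver n S).Modules)

/-- The pullback of `F` to `P^n_T` is flat over `T`. -/
def FlatAlong {T : Scheme.{u}} (φ : T ⟶ S) : Prop :=
  FlatMod.IsFlatOver (CohB1.ProjSpaceOver.toBase n T) ((Scheme.Modules.pullback (FGA.projMap n φ)).obj F)

theorem projMap_eq_overMap {T : Scheme.{u}} (φ : T ⟶ S) :
    FGA.projMap n φ = ProjSpace.BaseChange.overMap n φ := by
  refine pullback.hom_ext ?_ ?_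
  · exact ((pullback.lift_fst _ _ _).trans (Category.comp_id _)).trans
      (ProjSpace.BaseChange.overMap_fst n φ).symm
  · exact (pullback.lift_snd _ _ _).trans (ProjSpace.BaseChange.overMap_toBase n φ).symm

theorem isPullback_projMap {T : Scheme.{u}} (φ : T ⟶ S) :
    IsPullback (FGA.projMap n φ) (CohB1.ProjSpaceOver.toBase n T) (CohB1.ProjSpaceOver.toBase n S) φ := by
  rw [projMap_eq_overMap]
  exact ProjSpace.BaseChange.isPullback_overMap n φ

theorem projMap_comp {T T' : Scheme.{u}} (g : T' ⟶ T) (φ : T ⟶ S) :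
    FGA.projMap n (g ≫ φ) = FGA.projMap n g ≫ FGA.projMap n φ := by
  simp only [projMap_eq_overMap]
  refine pullback.hom_ext ?_ ?_
  · exact (ProjSpace.BaseChange.overMap_fst n (g ≫ φ)).trans ((Category.assoc _ _ _).trans
      ((congrArg (ProjSpace.BaseChange.overMap n g ≫ ·) (ProjSpace.BaseChange.overMap_fst n φ)).trans
        (ProjSpace.BaseChange.overMap_fst n g))).symm
  · exact (ProjSpace.BaseChange.overMap_toBase n (g ≫ φ)).trans ((Category.assoc _ _ _).trans
      ((congrArg (ProjSpace.BaseChange.overMap n g ≫ ·) (ProjSpace.BaseChange.overMap_toBase n φ)).trans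
        ((Category.assoc _ _ _).symm.trans ((congrArg (· ≫ φ) (ProjSpace.BaseChange.overMap_toBase n g)).trans
          (Category.assoc _ _ _))))).symm

variable {F} in
/-- Flatness along a morphism persists under further base change. -/
theorem FlatAlong.comp {T T' : Scheme.{u}} {φ : T ⟶ S} (h : FlatAlong F φ) (g : T' ⟶ T) :
    FlatAlong F (g ≫ φ) := fun x =>
  Flat55.FlatOverAt.of_iso _ ((Scheme.Modules.pullbackComp (FGA.projMap n g) (FGA.projMap n φ)).app F ≪≫
    (Scheme.Modules.pullbackCongr (projMap_comp g φ).symm).app F) x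
    (Flat55.FlatOverAt.isFlatOverAt_baseChange _ _ _ _ (isPullback_projMap (n := n) g) _ x (h _))

/-- Flatness along a morphism is local on the source. -/
theorem flatAlong_of_cover {T : Scheme.{u}} (φ : T ⟶ S)
    (h : ∀ t : T, ∃ (T' : Scheme.{u}) (g : T' ⟶ T) (_ : IsOpenImmersion g), t ∈ Set.range g ∧
      FlatAlong F (g ≫ φ)) : FlatAlong F φ := by
  intro x
  obtain ⟨T', g, hg, ⟨t', ht'⟩, hflat⟩ := h (CohB1.ProjSpaceOver.toBase n T x)
  have sq := isPullback_projMap (n := n) g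
  obtain ⟨z, hz, -⟩ := Scheme.Pullback.exists_preimage_pullback
    (f := CohB1.ProjSpaceOver.toBase n T) (g := g) x t' ht'.symm
  have hx : FGA.projMap n g (sq.isoPullback.inv z) = x := by
    rw [← Scheme.Hom.comp_apply, sq.isoPullback_inv_fst, hz]
  rw [← hx]
  refine Flat55.FlatOverAt.isFlatOverAt_of_baseChange _ _ _ _ sq _ _ (Flat.stalkMap g _) ?_
  exact Flat55.FlatOverAt.of_iso _ ((Scheme.Modules.pullbackCongr (projMap_comp g φ)).app F ≪≫
    ((Scheme.Modules.pullbackComp (FGA.projMap n g) (FGA.projMap n φ)).app F).symm) _ (hflat _)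

theorem flatAlong_iff_pullback {T : Scheme.{u}} (φ : T ⟶ S) :
    FlatAlong F φ ↔ FlatMod.IsFlatOver (pullback.snd (CohB1.ProjSpaceOver.toBase n S) φ)
      ((Scheme.Modules.pullback (pullback.fst (CohB1.ProjSpaceOver.toBase n S) φ)).obj F) := by
  have hc := isPullback_projMap (n := n) φ
  let e := (Scheme.Modules.pullbackComp hc.isoPullback.hom
    (pullback.fst (CohB1.ProjSpaceOver.toBase n S) φ)).app F ≪≫
      (Scheme.Modules.pullbackCongr hc.isoPullback_hom_fst).app F
  have key : ∀ x, FlatMod.IsFlatOverAt (CohB1.ProjSpaceOver.toBase n T)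
      ((Scheme.Modules.pullback (FGA.projMap n φ)).obj F) x ↔
      FlatMod.IsFlatOverAt (pullback.snd (CohB1.ProjSpaceOver.toBase n S) φ)
        ((Scheme.Modules.pullback (pullback.fst (CohB1.ProjSpaceOver.toBase n S) φ)).obj F)
        (hc.isoPullback.hom x) := fun x => by
    rw [← Flat55.FlatOverAt.isFlatOverAt_pullback_iff hc.isoPullback.hom _ _ x (Flat.stalkMap _ _),
      hc.isoPullback_hom_snd]
    exact ⟨Flat55.FlatOverAt.of_iso _ e.symm x, Flat55.FlatOverAt.of_iso _ e x⟩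
  refine ⟨fun h y => ?_, fun h x => (key x).2 (h _)⟩
  obtain ⟨x, rfl⟩ := hc.isoPullback.hom.surjective y
  exact (key x).1 (h x)

/-- Over an affine scheme mapping into an affine open of the base, flatness is flatness of the charts. -/
theorem flatAlong_iff_charts [F.IsQuasicoherent] {U : S.Opens} (hU : IsAffineOpen U) {T : Scheme.{u}}
    [IsAffine T] (φ : T ⟶ S) (eU : (⊤ : T.Opens) ≤ φ ⁻¹ᵁ U) :
    letI := (φ.appLE U ⊤ eU).hom.toAlgebra
    FlatAlong F φ ↔ ∀ i, Module.Flat Γ(T, ⊤) (Γ(T, ⊤) ⊗[Γ(S, U)] Mo F U i) := by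
  let p := CohB1.ProjSpaceOver.toBase n S
  let N := (Scheme.Modules.pullback (pullback.fst p φ)).obj F
  haveI := QCoh.Pullback.isQCoh_pullback (pullback.fst p φ) F
  have hT : IsAffineOpen (⊤ : T.Opens) := isAffineOpen_top _
  have hOaff : ∀ i, IsAffineOpen (pullback.fst p φ ⁻¹ᵁ V n U i ⊓ pullback.snd p φ ⁻¹ᵁ ⊤) := fun i =>
    (SchDom.exists_chartEquiv (IsPullback.of_hasPullback p φ) hU (isAffineOpen_V n hU i) hT
      (V_le_toBase n U i) eU).1
  rw [flatAlong_iff_pullback]
  constructor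
  · intro h i
    exact (GenFlatten.flat_chart_iff p φ F hU (isAffineOpen_V n hU i) hT (V_le_toBase n U i) eU).1
      (H47.FlatKernelScheme.flat_sections (pullback.snd p φ) N hT (hOaff i) inf_le_right h)
  · intro h y
    have hy0 : p (pullback.fst p φ y) ∈ U := by
      rw [← Scheme.Hom.comp_apply, pullback.condition, Scheme.Hom.comp_apply]
      exact eU trivial
    obtain ⟨i, hi⟩ := exists_mem_V n (pullback.fst p φ y) hy0
    have hy : y ∈ pullback.fst p φ ⁻¹ᵁ V n U i ⊓ pullback.snd p φ ⁻¹ᵁ ⊤ := ⟨hi, trivial⟩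
    have hflat := (GenFlatten.flat_chart_iff p φ F hU (isAffineOpen_V n hU i) hT (V_le_toBase n U i) eU).2 (h i)
    refine (H19.FlatLocus.Scheme.isFlatOverAt_iff (pullback.snd p φ) N hT (hOaff i) inf_le_right hy).2 ?_
    letI := ((pullback.snd p φ).appLE ⊤ (pullback.fst p φ ⁻¹ᵁ V n U i ⊓ pullback.snd p φ ⁻¹ᵁ ⊤) inf_le_right).hom.toAlgebra
    letI := Module.compHom Γ(N, pullback.fst p φ ⁻¹ᵁ V n U i ⊓ pullback.snd p φ ⁻¹ᵁ ⊤)
      ((pullback.snd p φ).appLE ⊤ (pullback.fst p φ ⁻¹ᵁ V n U i ⊓ pullback.snd p φ ⁻¹ᵁ ⊤) inf_le_right).hom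
    haveI := hflat
    haveI : IsScalarTower Γ(T, ⊤) Γ(pullback p φ, pullback.fst p φ ⁻¹ᵁ V n U i ⊓ pullback.snd p φ ⁻¹ᵁ ⊤)
        Γ(N, pullback.fst p φ ⁻¹ᵁ V n U i ⊓ pullback.snd p φ ⁻¹ᵁ ⊤) :=
      IsScalarTower.of_algebraMap_smul fun _ _ => rfl
    exact H19.FlatLocus.Model.flat_localized ((hOaff i).primeIdealOf ⟨y, hy⟩).asIdeal.primeCompl
      (LocalizedModule.mkLinearMap _ _)

end Groth.Agent.Lib.FlatStrat53
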