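import Groth.Agent.Lib.ProjSpace.Basic
import Groth.Agent.Lib.SchDom.Scheme
import Groth.Agent.Lib.QCoh.Localizing
import Groth.Prelude.Def_CohB1

/-!
# Standard charts of `P^n_S` over an open of the base, with their coordinates
-/

set_option autoImplicit false
set_option linter.style.haveILetI false
set_option linter.style.show false

universe u

open CategoryTheory CategoryTheory.Limits AlgebraicGeometry TensorProduct
open Groth.Agent.Lib.QCoh.Localizing

namespace Groth.Agent.Lib.FlatStrat53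

open ProjSpace

variable (n : ℕ)

/-- Projective space over the integers. -/
noncomputable abbrev P₀ : Scheme.{u} := CohB1.ProjSpace n (ULift.{u} ℤ)

/-- The standard opens of `P^n_ℤ`. -/
noncomputable abbrev D₀ (i : Fin (n + 1)) : (P₀.{u} n).Opens :=
  Proj.basicOpen (CohB1.polyGrading n (ULift.{u} ℤ)) (MvPolynomial.X i)

/-- The coordinates on the standard opens. -/
noncomputable def c₀ (i j : Fin (n + 1)) : Γ(P₀.{u} n, D₀ n i) :=
  Proj.awayToSection (CohB1.polyGrading n (ULift.{u} ℤ)) (MvPolynomial.X i) (Charts.coord _ i j)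

theorem c₀_self (i : Fin (n + 1)) : c₀.{u} n i i = 1 := by
  rw [c₀, Charts.coord_self]
  exact map_one (Proj.awayToSection _ _).hom

theorem c₀_val (i j : Fin (n + 1)) (p : (D₀.{u} n i : Set (P₀.{u} n))) :
    ((c₀.{u} n i j).1 p).val = Localization.mk (MvPolynomial.X j) ⟨MvPolynomial.X i, p.2⟩ := by
  erw [ProjectiveSpectrum.Proj.awayToSection_apply]
  rw [Charts.val_coord, Localization.mk_eq_mk', IsLocalization.map_mk', ← Localization.mk_eq_mk']
  rfl

theorem c₀_cocycle (i j k : Fin (n + 1)) :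
    resR (X := P₀.{u} n) (U := D₀ n j) (V := D₀ n i ⊓ D₀ n j) inf_le_right (c₀ n j k) =
      resR inf_le_right (c₀ n j i) * resR inf_le_left (c₀ n i k) := by
  refine Subtype.ext (funext fun p => HomogeneousLocalization.val_injective _ ?_)
  erw [Proj.mul_apply]
  rw [HomogeneousLocalization.val_mul]
  show ((c₀.{u} n j k).1 ⟨p.1, p.2.2⟩).val =
    ((c₀.{u} n j i).1 ⟨p.1, p.2.2⟩).val * ((c₀.{u} n i k).1 ⟨p.1, p.2.1⟩).val
  erw [c₀_val n j k ⟨p.1, p.2.2⟩, c₀_val n j i ⟨p.1, p.2.2⟩, c₀_val n i k ⟨p.1, p.2.1⟩]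
  rw [Localization.mk_mul, Localization.mk_eq_mk_iff, Localization.r_iff_exists]
  refine ⟨1, ?_⟩
  simp only [Submonoid.coe_mul, OneMemClass.coe_one, one_mul]
  ring

theorem basicOpen_c₀ (i j : Fin (n + 1)) :
    (P₀.{u} n).basicOpen (c₀ n i j) = D₀ n i ⊓ D₀ n j := by
  ext p
  constructor
  · intro hp
    have hpi : p ∈ D₀ n i := Scheme.basicOpen_le _ _ hp
    refine ⟨hpi, ?_⟩
    rw [SetLike.mem_coe, Scheme.mem_basicOpen _ _ p hpi] at hp
    have h1 := (Proj.stalkIso' (CohB1.polyGrading n (ULift.{u} ℤ)) p).toRingHom.isUnit_map hp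
    change IsUnit ((Proj.stalkIso' (CohB1.polyGrading n (ULift.{u} ℤ)) p)
      ((P₀.{u} n).presheaf.germ (D₀ n i) p hpi (c₀ n i j))) at h1
    erw [Proj.stalkIso'_germ] at h1
    rw [← HomogeneousLocalization.isUnit_iff_isUnit_val] at h1
    erw [c₀_val n i j ⟨p, hpi⟩] at h1
    rw [Localization.mk_eq_mk',
      IsLocalization.AtPrime.isUnit_mk'_iff] at h1
    exact h1
  · rintro ⟨hpi, hpj⟩
    rw [SetLike.mem_coe, Scheme.mem_basicOpen _ _ p hpi]
    have h1 : IsUnit (resR (X := P₀.{u} n) (U := D₀ n i) (V := D₀ n j ⊓ D₀ n i) inf_le_right (c₀ n i j)) := by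
      refine IsUnit.of_mul_eq_one (resR inf_le_left (c₀ n j i)) ?_
      rw [← c₀_cocycle n j i i, c₀_self, map_one]
    have h2 := h1.map ((P₀.{u} n).presheaf.germ (D₀ n j ⊓ D₀ n i) p ⟨hpj, hpi⟩).hom
    erw [TopCat.Presheaf.germ_res_apply] at h2
    exact h2

variable (S : Scheme.{u})

/-- The projection to projective space over the integers. -/
noncomputable abbrev toP₀ : CohB1.ProjSpaceOver n S ⟶ P₀.{u} n :=
  pullback.fst (CohB1.ProjSpace.toSpec n (ULift.{u} ℤ)) (specULiftZIsTerminal.from S)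

variable {S}

/-- The standard chart over an open of the base. -/
noncomputable def V (U : S.Opens) (i : Fin (n + 1)) : (CohB1.ProjSpaceOver n S).Opens :=
  toP₀ n S ⁻¹ᵁ D₀ n i ⊓ CohB1.ProjSpaceOver.toBase n S ⁻¹ᵁ U

theorem V_le_toBase (U : S.Opens) (i : Fin (n + 1)) : V n U i ≤ CohB1.ProjSpaceOver.toBase n S ⁻¹ᵁ U :=
  inf_le_right

theorem V_le_toP₀ (U : S.Opens) (i : Fin (n + 1)) : V n U i ≤ toP₀ n S ⁻¹ᵁ D₀ n i :=
  inf_le_left

theorem V_mono {U W : S.Opens} (h : W ≤ U) (i : Fin (n + 1)) : V n W i ≤ V n U i :=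
  inf_le_inf le_rfl (Scheme.Hom.preimage_mono _ h)

theorem exists_mem_V {U : S.Opens} (x : CohB1.ProjSpaceOver n S)
    (hx : CohB1.ProjSpaceOver.toBase n S x ∈ U) : ∃ i, x ∈ V n U i := by
  have h : toP₀ n S x ∈ (⨆ i, D₀.{u} n i) := by
    rw [show (⨆ i, D₀.{u} n i) = ⊤ from Basic.iSup_basicOpen_X_eq_top n (ULift.{u} ℤ)]
    trivial
  obtain ⟨i, hi⟩ := TopologicalSpace.Opens.mem_iSup.1 h
  exact ⟨i, hi, hx⟩

/-- The structure map of a chart. -/
noncomputable abbrev baseHom (U : S.Opens) (i : Fin (n + 1)) :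
    Γ(S, U) →+* Γ(CohB1.ProjSpaceOver n S, V n U i) :=
  ((CohB1.ProjSpaceOver.toBase n S).appLE U (V n U i) (V_le_toBase n U i)).hom

/-- The coordinates of a chart. -/
noncomputable def t (U : S.Opens) (i j : Fin (n + 1)) : Γ(CohB1.ProjSpaceOver n S, V n U i) :=
  (toP₀ n S).appLE (D₀ n i) (V n U i) (V_le_toP₀ n U i) (c₀ n i j)

theorem t_self (U : S.Opens) (i : Fin (n + 1)) : t n U i i = 1 := by
  rw [t, c₀_self]
  exact map_one _

theorem t_res {U W : S.Opens} (h : W ≤ U) (i j : Fin (n + 1)) :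
    resR (V_mono n h i) (t n U i j) = t n W i j := by
  show ((toP₀ n S).appLE (D₀ n i) (V n U i) _ ≫
    (CohB1.ProjSpaceOver n S).presheaf.map (homOfLE (V_mono n h i)).op) (c₀ n i j) = _
  rw [Scheme.Hom.appLE_map]
  rfl

theorem t_cocycle (U : S.Opens) (i j k : Fin (n + 1)) :
    resR (V := V n U i ⊓ V n U j) inf_le_right (t n U j k) =
      resR inf_le_right (t n U j i) * resR inf_le_left (t n U i k) := by
  have e : V n U i ⊓ V n U j ≤ toP₀ n S ⁻¹ᵁ (D₀ n i ⊓ D₀ n j) := by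
    rw [Scheme.Hom.preimage_inf]
    exact inf_le_inf (V_le_toP₀ n U i) (V_le_toP₀ n U j)
  have key : ∀ (l : Fin (n + 1)) (h₁ : V n U i ⊓ V n U j ≤ V n U l) (h₂ : D₀ n i ⊓ D₀ n j ≤ D₀.{u} n l)
      (m : Fin (n + 1)), resR h₁ (t n U l m) =
        (toP₀ n S).appLE (D₀ n i ⊓ D₀ n j) (V n U i ⊓ V n U j) e (resR h₂ (c₀ n l m)) := by
    intro l h₁ h₂ m
    show ((toP₀ n S).appLE (D₀ n l) (V n U l) _ ≫ (CohB1.ProjSpaceOver n S).presheaf.map (homOfLE h₁).op)
      (c₀ n l m) = ((P₀.{u} n).presheaf.map (homOfLE h₂).op ≫ (toP₀ n S).appLE _ _ e) (c₀ n l m)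
    rw [Scheme.Hom.appLE_map, Scheme.Hom.map_appLE]
  rw [key j inf_le_right inf_le_right, key j inf_le_right inf_le_right, key i inf_le_left inf_le_left,
    c₀_cocycle, map_mul]

theorem basicOpen_t (U : S.Opens) (i j : Fin (n + 1)) :
    (CohB1.ProjSpaceOver n S).basicOpen (t n U i j) = V n U i ⊓ V n U j := by
  rw [t, Scheme.basicOpen_appLE, basicOpen_c₀, Scheme.Hom.preimage_inf]
  unfold V
  ext x
  simp only [TopologicalSpace.Opens.coe_inf, Set.mem_inter_iff]
  tauto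

theorem isAffineOpen_V {U : S.Opens} (hU : IsAffineOpen U) (i : Fin (n + 1)) : IsAffineOpen (V n U i) :=
  (SchDom.exists_chartEquiv (IsPullback.of_hasPullback (CohB1.ProjSpace.toSpec n (ULift.{u} ℤ))
    (specULiftZIsTerminal.from S)) (isAffineOpen_top _) (Basic.isAffineOpen_basicOpen_X _ i) hU
    le_top le_top).1

/-- The coordinates generate the chart over the base. -/
theorem adjoin_t {U : S.Opens} (hU : IsAffineOpen U) (i : Fin (n + 1)) :
    letI := (baseHom n U i).toAlgebra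
    Algebra.adjoin Γ(S, U) (Set.range (t n U i)) = ⊤ := by
  letI := (baseHom n U i).toAlgebra
  obtain ⟨-, e, he⟩ := SchDom.exists_chartEquiv (IsPullback.of_hasPullback
    (CohB1.ProjSpace.toSpec n (ULift.{u} ℤ)) (specULiftZIsTerminal.from S)) (isAffineOpen_top _)
    (Basic.isAffineOpen_basicOpen_X _ i) hU le_top le_top
  rw [eq_top_iff]
  rintro z -
  obtain ⟨y, hy⟩ := e.surjective z
  rw [← hy]
  clear hy
  induction y with
  | zero => rw [map_zero]; exact zero_mem _
  | add a b ha hb => rw [map_add]; exact add_mem ha hb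
  | tmul a b =>
    rw [he]
    refine mul_mem ?_ (Subalgebra.algebraMap_mem _ b)
    let ρ : MvPolynomial {j : Fin (n + 1) // j ≠ i} (ULift.{u} ℤ) →+*
        Γ(CohB1.ProjSpaceOver n S, V n U i) :=
      (((toP₀ n S).appLE (D₀ n i) (V n U i) (V_le_toP₀ n U i)).hom.comp
        (Proj.awayToSection (CohB1.polyGrading n (ULift.{u} ℤ)) (MvPolynomial.X i)).hom).comp
          (Charts.fromPoly (ULift.{u} ℤ) i)
    have hsurj : ∀ a : Γ(P₀.{u} n, D₀ n i), ∃ q, Proj.awayToSection (CohB1.polyGrading n (ULift.{u} ℤ))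
        (MvPolynomial.X i) (Charts.fromPoly (ULift.{u} ℤ) i q) = a := fun a => by
      obtain ⟨w, hw⟩ := (Proj.basicOpenIsoAway (CohB1.polyGrading n (ULift.{u} ℤ)) (MvPolynomial.X i)
        (Charts.X_mem_one i) one_pos).commRingCatIsoToRingEquiv.surjective a
      obtain ⟨q, rfl⟩ := Charts.fromPoly_surjective i w
      exact ⟨q, hw⟩
    obtain ⟨q, rfl⟩ := hsurj a
    show ρ q ∈ _
    induction q using MvPolynomial.induction_on with
    | C r =>
      have : ρ (MvPolynomial.C r) = ((r.down : ℤ) : Γ(CohB1.ProjSpaceOver n S, V n U i)) :=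
        RingHom.congr_fun (RingHom.ext_int ((ρ.comp MvPolynomial.C).comp
          (ULift.ringEquiv.symm : ℤ ≃+* ULift.{u} ℤ).toRingHom) (Int.castRingHom _)) r.down
      rw [this]
      exact intCast_mem _ _
    | add a b ha hb => rw [map_add]; exact add_mem ha hb
    | mul_X a j ha =>
      rw [map_mul]
      refine mul_mem ha (Algebra.subset_adjoin ⟨j.1, ?_⟩)
      show t n U i j.1 = ρ (MvPolynomial.X j)
      simp only [ρ, RingHom.comp_apply, Charts.fromPoly_X]
      rfl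

end Groth.Agent.Lib.FlatStrat53
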