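import Groth.Agent.Lib.FlatStrat53.Model
import Groth.Agent.Lib.FlatStrat53.Charts
import Groth.Agent.Lib.CohBasics.Affine
import Groth.Agent.Lib.Modules.ZeroLocus
import Mathlib.RingTheory.Localization.BaseChange

/-!
# Graded models of a coherent sheaf on `P^n_S` over affine opens of the base
-/

set_option autoImplicit false
set_option linter.style.haveILetI false
set_option linter.style.show false

universe u

open CategoryTheory CategoryTheory.Limits AlgebraicGeometry TensorProduct
open Groth.Agent.Lib.QCoh.Localizing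

namespace Groth.Agent.Lib.FlatStrat53

variable {n : ℕ} {S : Scheme.{u}} (F : (CohB1.ProjSpaceOver n S).Modules)

/-- The chart ring. -/
abbrev Rg (n : ℕ) {S : Scheme.{u}} (U : S.Opens) (i : Fin (n + 1)) : Type u :=
  Γ(CohB1.ProjSpaceOver n S, V n U i)

/-- The chart module. -/
abbrev Mo (U : S.Opens) (i : Fin (n + 1)) : Type u := Γ(F, V n U i)

noncomputable instance algRg (U : S.Opens) (i : Fin (n + 1)) : Algebra Γ(S, U) (Rg n U i) :=
  (baseHom n U i).toAlgebra

noncomputable instance modMo (U : S.Opens) (i : Fin (n + 1)) : Module Γ(S, U) (Mo F U i) :=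
  Module.compHom _ (baseHom n U i)

instance towerMo (U : S.Opens) (i : Fin (n + 1)) : IsScalarTower Γ(S, U) (Rg n U i) (Mo F U i) :=
  IsScalarTower.of_algebraMap_smul fun _ _ => rfl

theorem baseHom_res {U W : S.Opens} (h : W ≤ U) (i : Fin (n + 1)) (a : Γ(S, U)) :
    resR (V_mono n h i) (baseHom n U i a) = baseHom n W i (resR h a) := by
  show ((CohB1.ProjSpaceOver.toBase n S).appLE U (V n U i) (V_le_toBase n U i) ≫
    (CohB1.ProjSpaceOver n S).presheaf.map (homOfLE (V_mono n h i)).op) a =
      (S.presheaf.map (homOfLE h).op ≫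
        (CohB1.ProjSpaceOver.toBase n S).appLE W (V n W i) (V_le_toBase n W i)) a
  rw [Scheme.Hom.appLE_map, Scheme.Hom.map_appLE]

theorem baseHom_inter (U : S.Opens) (i j : Fin (n + 1)) (a : Γ(S, U)) :
    resR (V := V n U i ⊓ V n U j) inf_le_left (baseHom n U i a) =
      resR inf_le_right (baseHom n U j a) := by
  show ((CohB1.ProjSpaceOver.toBase n S).appLE U (V n U i) (V_le_toBase n U i) ≫
    (CohB1.ProjSpaceOver n S).presheaf.map (homOfLE _).op) a =
      ((CohB1.ProjSpaceOver.toBase n S).appLE U (V n U j) (V_le_toBase n U j) ≫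
    (CohB1.ProjSpaceOver n S).presheaf.map (homOfLE _).op) a
  rw [Scheme.Hom.appLE_map, Scheme.Hom.appLE_map]

/-- Restriction to the intersection, from the first chart. -/
noncomputable abbrev resL (U : S.Opens) (i j : Fin (n + 1)) : Mo F U i →+ Γ(F, V n U i ⊓ V n U j) :=
  res F inf_le_left

/-- Restriction to the intersection, from the second chart. -/
noncomputable abbrev resRt (U : S.Opens) (i j : Fin (n + 1)) : Mo F U j →+ Γ(F, V n U i ⊓ V n U j) :=
  res F inf_le_right

/-- The ratio of the `i`-th and the `j`-th variable on the intersection. -/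
noncomputable abbrev ratio (n : ℕ) {S : Scheme.{u}} (U : S.Opens) (i j : Fin (n + 1)) :
    Γ(CohB1.ProjSpaceOver n S, V n U i ⊓ V n U j) :=
  resR (inf_le_right : V n U i ⊓ V n U j ≤ V n U j) (t n U j i)

/-- Tuples of sections of degree `m`: `v_j = (x_i/x_j)^m v_i` on the intersections. -/
noncomputable def compat (U : S.Opens) (m : ℕ) : Submodule Γ(S, U) (∀ i, Mo F U i) where
  carrier := {v | ∀ i j, resRt F U i j (v j) = ratio n U i j ^ m • resL F U i j (v i)}
  zero_mem' i j := by
    show resRt F U i j 0 = ratio n U i j ^ m • resL F U i j 0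
    rw [map_zero, map_zero, smul_zero]
  add_mem' {a b} ha hb i j := by
    show resRt F U i j (a j + b j) = ratio n U i j ^ m • resL F U i j (a i + b i)
    rw [map_add, map_add, ha i j, hb i j, smul_add]
  smul_mem' a v hv i j := by
    show res F inf_le_right (baseHom n U j a • v j) =
      ratio n U i j ^ m • res F inf_le_left (baseHom n U i a • v i)
    rw [res_smul, res_smul, show res F inf_le_right (v j) = _ from hv i j, ← baseHom_inter U i j a,
      smul_smul, smul_smul, mul_comm]

theorem mem_compat_iff {U : S.Opens} {m : ℕ} {v : ∀ i, Mo F U i} :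
    v ∈ compat F U m ↔ ∀ i j, res F (inf_le_right : V n U i ⊓ V n U j ≤ V n U j) (v j) =
      resR (inf_le_right : V n U i ⊓ V n U j ≤ V n U j) (t n U j i) ^ m •
        res F (inf_le_left : V n U i ⊓ V n U j ≤ V n U i) (v i) :=
  Iff.rfl

theorem compat_mul (U : S.Opens) (m : ℕ) (v : ∀ i, Mo F U i) (hv : v ∈ compat F U m) (k : Fin (n + 1)) :
    (fun i => t n U i k • v i) ∈ compat F U (m + 1) := by
  rw [mem_compat_iff] at hv ⊢
  intro i j
  rw [res_smul, res_smul, hv i j, t_cocycle, smul_smul, smul_smul, pow_succ]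
  congr 1
  ring

theorem compat_res {U W : S.Opens} (h : W ≤ U) {m : ℕ} {v : ∀ i, Mo F U i} (hv : v ∈ compat F U m) :
    (fun i => res F (V_mono n h i) (v i)) ∈ compat F W m := by
  rw [mem_compat_iff] at hv ⊢
  intro i j
  have hle : V n W i ⊓ V n W j ≤ V n U i ⊓ V n U j := inf_le_inf (V_mono n h i) (V_mono n h j)
  have h1 := congrArg (res F hle) (hv i j)
  rw [res_smul, map_pow, res_res, res_res, resR_resR] at h1
  rw [res_res, res_res, h1, ← t_res n h j i, resR_resR]

variable [F.IsQuasicoherent]

theorem compat_ker {U : S.Opens} (hU : IsAffineOpen U) (m : ℕ) (v : ∀ i, Mo F U i)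
    (hv : v ∈ compat F U m) (i : Fin (n + 1)) (hi : v i = 0) :
    ∃ p : ℕ, ∀ k, t n U k i ^ p • v k = 0 := by
  rw [mem_compat_iff] at hv
  have h : ∀ k, ∃ p : ℕ, t n U k i ^ p • v k = 0 := fun k => by
    have e : (CohB1.ProjSpaceOver n S).basicOpen (t n U k i) ≤ V n U i ⊓ V n U k :=
      (basicOpen_t n U k i).le.trans (le_of_eq (inf_comm _ _))
    refine (localizes_of_isAffineOpen F (isAffineOpen_V n hU k) (t n U k i)).sep (v k) ?_
    rw [← res_res (h := (inf_le_right : V n U i ⊓ V n U k ≤ V n U k)) (h' := e), hv i k, hi,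
      map_zero, smul_zero, map_zero]
  choose p hp using h
  refine ⟨Finset.univ.sup p, fun k => ?_⟩
  rw [← Nat.sub_add_cancel (Finset.le_sup (f := p) (Finset.mem_univ k)), pow_add, mul_smul, hp k, smul_zero]

theorem compat_surj {U : S.Opens} (hU : IsAffineOpen U) (i : Fin (n + 1)) (x : Mo F U i) :
    ∃ m, ∃ v ∈ compat F U m, v i = x := by
  classical
  let X := CohB1.ProjSpaceOver n S
  have hloc : ∀ j, ∃ (p : ℕ) (w : Mo F U j),
      res F (X.basicOpen_le (t n U j i)) w = resR (X.basicOpen_le (t n U j i)) (t n U j i) ^ p •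
        res F ((basicOpen_t n U j i).le.trans inf_le_right) x := fun j =>
    (localizes_of_isAffineOpen F (isAffineOpen_V n hU j) (t n U j i)).ext' _
  choose p w hw using hloc
  let P := Finset.univ.sup p
  obtain ⟨w', hw'⟩ : ∃ w' : ∀ j, Mo F U j, ∀ j, res F (X.basicOpen_le (t n U j i)) (w' j) =
      resR (X.basicOpen_le (t n U j i)) (t n U j i) ^ P •
        res F ((basicOpen_t n U j i).le.trans inf_le_right) x :=
    ⟨fun j => t n U j i ^ (P - p j) • w j, fun j => by
      rw [res_smul, hw, map_pow, smul_smul, ← pow_add, Nat.sub_add_cancel (Finset.le_sup (Finset.mem_univ j))]⟩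
  have hdiff : ∀ j k, ∃ q : ℕ,
      resR (inf_le_right : V n U j ⊓ V n U k ≤ V n U k) (t n U k i) ^ q •
        (res F (inf_le_right : V n U j ⊓ V n U k ≤ V n U k) (w' k) -
          resR (inf_le_right : V n U j ⊓ V n U k ≤ V n U k) (t n U k j) ^ P •
            res F (inf_le_left : V n U j ⊓ V n U k ≤ V n U j) (w' j)) = 0 := by
    intro j k
    have hO : IsAffineOpen (V n U j ⊓ V n U k) := by
      rw [inf_comm, ← basicOpen_t n U k j]
      exact (isAffineOpen_V n hU k).basicOpen _
    refine (localizes_of_isAffineOpen F hO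
      (resR (inf_le_right : V n U j ⊓ V n U k ≤ V n U k) (t n U k i))).sep _ ?_
    set B := X.basicOpen (resR (inf_le_right : V n U j ⊓ V n U k ≤ V n U k) (t n U k i)) with hB
    have hBO : B ≤ V n U j ⊓ V n U k := X.basicOpen_le _
    have hBi : B ≤ V n U i :=
      ((basicOpen_le_of_resR _ _).trans (basicOpen_t n U k i).le).trans inf_le_right
    have hBk : B ≤ X.basicOpen (t n U k i) := basicOpen_le_of_resR _ _
    have hBj : B ≤ X.basicOpen (t n U j i) := by
      rw [basicOpen_t]; exact le_inf (hBO.trans inf_le_left) hBi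
    have ek := congrArg (res F hBk) (hw' k)
    rw [res_res, res_smul, res_res, map_pow, resR_resR] at ek
    have ej := congrArg (res F hBj) (hw' j)
    rw [res_res, res_smul, res_res, map_pow, resR_resR] at ej
    have hc := congrArg (resR hBO) (t_cocycle n U j k i)
    rw [map_mul, resR_resR, resR_resR, resR_resR] at hc
    rw [map_sub, res_res, res_smul, res_res, map_pow, resR_resR, ek, ej, smul_smul, ← mul_pow, ← hc,
      sub_self]
  choose q hq using hdiff
  let Q := Finset.univ.sup fun j => Finset.univ.sup fun k => q j k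
  have hQ : ∀ j k, q j k ≤ Q := fun j k =>
    (Finset.le_sup (f := fun k => q j k) (Finset.mem_univ k)).trans
      (Finset.le_sup (f := fun j => Finset.univ.sup fun k => q j k) (Finset.mem_univ j))
  refine ⟨P + Q, fun j => t n U j i ^ Q • w' j, (mem_compat_iff F).2 fun j k => ?_, ?_⟩
  · have h0 : resR (inf_le_right : V n U j ⊓ V n U k ≤ V n U k) (t n U k i) ^ Q •
        (res F (inf_le_right : V n U j ⊓ V n U k ≤ V n U k) (w' k) -
          resR (inf_le_right : V n U j ⊓ V n U k ≤ V n U k) (t n U k j) ^ P •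
            res F (inf_le_left : V n U j ⊓ V n U k ≤ V n U j) (w' j)) = 0 := by
      rw [← Nat.sub_add_cancel (hQ j k), pow_add, mul_smul, hq j k, smul_zero]
    rw [smul_sub, sub_eq_zero] at h0
    rw [res_smul, res_smul, map_pow, map_pow, h0, t_cocycle n U j k i, smul_smul, smul_smul]
    congr 1
    ring
  · show t n U i i ^ Q • w' i = x
    rw [t_self, one_pow, one_smul]
    have e1 : ∀ {O : X.Opens} (h : O ≤ V n U i), resR h (t n U i i) = 1 := fun h => by rw [t_self, map_one]
    obtain ⟨N, hN⟩ := (localizes_of_isAffineOpen F (isAffineOpen_V n hU i) (t n U i i)).sep.exists_pow_smul_eq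
      (t := w' i) (t' := x) (by rw [hw' i, e1, one_pow, one_smul])
    rwa [t_self, one_pow, one_smul, one_smul] at hN

/-- The chart coordinates, as a family. -/
noncomputable abbrev coords (n : ℕ) {S : Scheme.{u}} (U : S.Opens) :
    ∀ i, Fin (n + 1) → Rg n U i := t n U

theorem exists_sheafModel [SheafOfModules.IsFiniteType (R := (CohB1.ProjSpaceOver n S).ringCatSheaf) F]
    {U : S.Opens} (hU : IsAffineOpen U) (extra : Finset (ℕ × ∀ i, Mo F U i))
    (hextra : ∀ q ∈ extra, q.2 ∈ compat F U q.1) :
    ∃ 𝔐 : Model (A := Γ(S, U)) (coords n U) (fun i => Mo F U i),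
      (∀ q ∈ extra, ∃ g, 𝔐.e q.1 g = g ∧ ∀ i, 𝔐.ψ i g = q.2 i) ∧
        ∀ m g, 𝔐.e m g = g → (fun i => 𝔐.ψ i g) ∈ compat F U m := by
  haveI : ∀ i, Module.Finite (Rg n U i) (Mo F U i) := fun i =>
    CohBasics.Affine.finite_sections (isAffineOpen_V n hU i)
  exact exists_model (coords n U) (t_self n U) (adjoin_t n hU) (compat F U) (compat_mul F U)
    (compat_ker F hU) (compat_surj F hU) extra hextra

theorem preimage_basicOpen (U : S.Opens) (i : Fin (n + 1)) (a : Γ(S, U)) :
    (CohB1.ProjSpaceOver n S).basicOpen (baseHom n U i a) = V n (S.basicOpen a) i := by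
  rw [baseHom, Scheme.basicOpen_appLE]
  unfold V
  ext x
  simp only [TopologicalSpace.Opens.coe_inf, Set.mem_inter_iff]
  constructor
  · exact fun h => ⟨h.1.1, h.2⟩
  · exact fun h => ⟨⟨h.1, S.basicOpen_le a h.2⟩, h.2⟩

/-- Restriction of chart modules to a smaller open. -/
noncomputable def resMo {U W : S.Opens} (h : W ≤ U) (i : Fin (n + 1)) :
    letI := Module.compHom (Mo F W i) (resR h)
    Mo F U i →ₗ[Γ(S, U)] Mo F W i :=
  letI := Module.compHom (Mo F W i) (resR h)
  { toFun := res F (V_mono n h i)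
    map_add' := map_add _
    map_smul' := fun a v => by
      show res F (V_mono n h i) (baseHom n U i a • v) = baseHom n W i (resR h a) • res F (V_mono n h i) v
      rw [res_smul, baseHom_res] }

/-- On a basic open of the base this is base change. -/
theorem isBaseChange_resMo {U : S.Opens} (hU : IsAffineOpen U) (a : Γ(S, U)) (i : Fin (n + 1)) :
    letI := (resR (S.basicOpen_le a)).toAlgebra
    letI := Module.compHom (Mo F (S.basicOpen a) i) (resR (S.basicOpen_le a))
    haveI : IsScalarTower Γ(S, U) Γ(S, S.basicOpen a) (Mo F (S.basicOpen a) i) :=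
      IsScalarTower.of_algebraMap_smul fun _ _ => rfl
    IsBaseChange Γ(S, S.basicOpen a) (resMo F (S.basicOpen_le a) i) := by
  letI := (resR (S.basicOpen_le a)).toAlgebra
  letI := Module.compHom (Mo F (S.basicOpen a) i) (resR (S.basicOpen_le a))
  haveI : IsScalarTower Γ(S, U) Γ(S, S.basicOpen a) (Mo F (S.basicOpen a) i) :=
    IsScalarTower.of_algebraMap_smul fun _ _ => rfl
  haveI : IsLocalization.Away a Γ(S, S.basicOpen a) := hU.isLocalization_basicOpen a
  let f := baseHom n U i a
  have hVW : V n (S.basicOpen a) i = (CohB1.ProjSpaceOver n S).basicOpen f := (preimage_basicOpen U i a).symm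
  have hl := localizes_of_isAffineOpen F (isAffineOpen_V n hU i) f
  haveI : IsLocalizedModule (Submonoid.powers a) (resMo F (S.basicOpen_le a) i) := by
    refine ⟨fun s => ?_, fun y => ?_, fun {v v'} h => ?_⟩
    · rw [Module.End.isUnit_iff]
      exact ((IsLocalization.map_units Γ(S, S.basicOpen a) s).map (baseHom n (S.basicOpen a) i)).smul_bijective
    · obtain ⟨N, x, hx⟩ := hl.ext'.exists_of_eq hVW (V_mono n (S.basicOpen_le a) i) y
      refine ⟨⟨x, ⟨a ^ N, N, rfl⟩⟩, ?_⟩
      show baseHom n (S.basicOpen a) i (resR (S.basicOpen_le a) (a ^ N)) • y = res F (V_mono n (S.basicOpen_le a) i) x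
      rw [hx, map_pow, map_pow, ← baseHom_res]
    · obtain ⟨N, hN⟩ := hl.sep.exists_pow_smul_eq (t := v) (t' := v') (by
        have := congrArg (res F hVW.ge) h
        change res F hVW.ge (res F _ v) = res F hVW.ge (res F _ v') at this
        rwa [res_res, res_res] at this)
      refine ⟨⟨a ^ N, N, rfl⟩, ?_⟩
      show baseHom n U i (a ^ N) • v = baseHom n U i (a ^ N) • v'
      rwa [map_pow]
  exact IsLocalizedModule.isBaseChange (Submonoid.powers a) _ _

end Groth.Agent.Lib.FlatStrat53
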