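import Groth.Agent.Lib.FlatStrat53.Compare
import Groth.Agent.Lib.FlatStrat53.Sections

/-!
# An atlas of models with a globally defined dimension function
-/

set_option autoImplicit false
set_option linter.style.haveILetI false
set_option linter.style.show false

universe u

open CategoryTheory CategoryTheory.Limits AlgebraicGeometry TensorProduct TopologicalSpace
open Groth.Agent.Lib.QCoh.Localizing

namespace Groth.Agent.Lib.FlatStrat53

section Dim

variable {A : Type u} [CommRing A] {n : ℕ} {G : Type u} [AddCommGroup G] [Module A G]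
  [Module (MvPolynomial (Fin (n + 1)) A) G] [IsScalarTower A (MvPolynomial (Fin (n + 1)) A) G]
  [Module.Finite (MvPolynomial (Fin (n + 1)) A) G] {e : ℕ → G →ₗ[A] G}

theorem dimAt_le_iff (hg : IsGrading n e) (K : Type u) [Field K] [Algebra A K] (m c : ℕ) :
    dimAt e K m ≤ c ↔ ¬ Fitt.ideal A (LinearMap.range (e m)) c ≤ RingHom.ker (algebraMap A K) := by
  haveI := hg.finite_range m
  rw [← Ideal.map_eq_bot_iff_le_ker, fitt_map_eq_bot_iff, not_lt]
  exact Iff.rfl

/-- The dimension only depends on the point. -/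
theorem dimAt_congr (hg : IsGrading n e) (K K' : Type u) [Field K] [Algebra A K] [Field K'] [Algebra A K']
    (h : RingHom.ker (algebraMap A K) = RingHom.ker (algebraMap A K')) (m : ℕ) :
    dimAt e K m = dimAt e K' m :=
  le_antisymm ((dimAt_le_iff hg K m _).2 (h ▸ (dimAt_le_iff hg K' m _).1 le_rfl))
    ((dimAt_le_iff hg K' m _).2 (h ▸ (dimAt_le_iff hg K m _).1 le_rfl))

end Dim

variable {n : ℕ} {S : Scheme.{u}} {F : (CohB1.ProjSpaceOver n S).Modules}

theorem mem_primeIdealOf_iff {U : S.Opens} (hU : IsAffineOpen U) {s : S} (hs : s ∈ U) (a : Γ(S, U)) :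
    a ∈ (hU.primeIdealOf ⟨s, hs⟩).asIdeal ↔ s ∉ S.basicOpen a := by
  have h : hU.primeIdealOf ⟨s, hs⟩ ∈ hU.fromSpec ⁻¹ᵁ S.basicOpen a ↔ a ∉ (hU.primeIdealOf ⟨s, hs⟩).asIdeal := by
    rw [hU.fromSpec_preimage_basicOpen]
    exact PrimeSpectrum.mem_basicOpen _ _
  have h' : hU.fromSpec (hU.primeIdealOf ⟨s, hs⟩) = s := hU.fromSpec_primeIdealOf ⟨s, hs⟩
  constructor
  · intro ha hsa
    exact h.1 (show hU.fromSpec _ ∈ S.basicOpen a from h'.symm ▸ hsa) ha
  · intro hsa
    by_contra ha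
    exact hsa (h' ▸ (h.2 ha))

theorem comap_primeIdealOf {U W : S.Opens} (hU : IsAffineOpen U) (hW : IsAffineOpen W) (h : W ≤ U) {s : S}
    (hs : s ∈ W) :
    (hW.primeIdealOf ⟨s, hs⟩).asIdeal.comap (resR h) = (hU.primeIdealOf ⟨s, h hs⟩).asIdeal := by
  ext a
  rw [Ideal.mem_comap, mem_primeIdealOf_iff, mem_primeIdealOf_iff,
    show S.basicOpen (resR h a) = W ⊓ S.basicOpen a from Scheme.basicOpen_res S a (homOfLE h).op]
  exact not_congr ⟨fun h' => h'.2, fun h' => ⟨hs, h'⟩⟩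

variable (F) in
/-- A model over an affine open. -/
abbrev SheafModel (U : S.Opens) : Type (u + 1) := Model (A := Γ(S, U)) (coords n U) (fun i => Mo F U i)

/-- The dimensions of the fibre at a point of the parts of a model. -/
noncomputable def dimS {U : S.Opens} (hU : IsAffineOpen U) (𝔐 : SheafModel F U) (s : S) (hs : s ∈ U)
    (m : ℕ) : ℕ :=
  dimAt 𝔐.e (hU.primeIdealOf ⟨s, hs⟩).asIdeal.ResidueField m

theorem dimAt_eq_dimS {U : S.Opens} (hU : IsAffineOpen U) (𝔐 : SheafModel F U) {s : S} (hs : s ∈ U)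
    (K : Type u) [Field K] [Algebra Γ(S, U) K]
    (h : ∀ a, algebraMap Γ(S, U) K a = 0 ↔ s ∉ S.basicOpen a) (m : ℕ) :
    dimAt 𝔐.e K m = dimS hU 𝔐 s hs m :=
  dimAt_congr 𝔐.grading K _ (by
    rw [Ideal.ker_algebraMap_residueField]
    exact Ideal.ext fun a => (RingHom.mem_ker.trans (h a)).trans (mem_primeIdealOf_iff hU hs a).symm) m

variable [F.IsQuasicoherent]

/-- A model on a basic open containing the restriction of a given model has the same dimensions in
large degree. -/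
theorem exists_dimS_eq_basicOpen {U W : S.Opens} (hU : IsAffineOpen U) (hW : IsAffineOpen W) (a : Γ(S, U))
    (hWa : W = S.basicOpen a) (𝔐 : SheafModel F U) (𝔑 : SheafModel F W) {M₀ : ℕ}
    (hgood : ∀ (K : Type u) [Field K] [Algebra Γ(S, U) K], GoodAt n 𝔐.e M₀ K)
    (hle : W ≤ U) {extra : Finset (ℕ × 𝔐.G)} {gens : Finset 𝔐.G}
    (hgens : Submodule.span (MvPolynomial (Fin (n + 1)) Γ(S, U)) (gens : Set 𝔐.G) = ⊤)
    (hs : ∀ g ∈ gens, ∀ d, (d, 𝔐.e d g) ∈ extra ∨ 𝔐.e d g = 0)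
    (hcov : ∀ q ∈ extra, ∃ g', 𝔑.e q.1 g' = g' ∧ ∀ i, 𝔑.ψ i g' = res F (V_mono n hle i) (𝔐.ψ i q.2))
    (s : S) (hsW : s ∈ W) :
    ∃ m₁, ∀ m, m₁ ≤ m → dimS hU 𝔐 s (hle hsW) m = dimS hW 𝔑 s hsW m := by
  subst hWa
  letI := (resR hle).toAlgebra
  letI : ∀ i, Module Γ(S, U) (Mo F (S.basicOpen a) i) := fun i => Module.compHom _ (resR hle)
  haveI : ∀ i, IsScalarTower Γ(S, U) Γ(S, S.basicOpen a) (Mo F (S.basicOpen a) i) := fun i =>
    IsScalarTower.of_algebraMap_smul fun _ _ => rfl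
  have hcov' := cover_of_extra (t := coords n U) (t' := coords n (S.basicOpen a)) (fun i => resMo F hle i)
    (fun i j v => by
      show res F (V_mono n hle i) (t n U i j • v) = t n (S.basicOpen a) i j • res F (V_mono n hle i) v
      rw [res_smul, t_res n hle]) 𝔐 𝔑
    (fun i c j v => by
      show t n (S.basicOpen a) i j • (baseHom n (S.basicOpen a) i (resR hle c) • v) =
        baseHom n (S.basicOpen a) i (resR hle c) • (t n (S.basicOpen a) i j • v)
      rw [smul_smul, smul_smul, mul_comm]) hgens hs hcov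
  let K := (hW.primeIdealOf ⟨s, hsW⟩).asIdeal.ResidueField
  letI : Algebra Γ(S, U) K := ((algebraMap Γ(S, S.basicOpen a) K).comp (resR hle)).toAlgebra
  haveI : IsScalarTower Γ(S, U) Γ(S, S.basicOpen a) K := IsScalarTower.of_algebraMap_eq fun _ => rfl
  obtain ⟨m₁, h₁⟩ := exists_dimAt_eq (t := coords n U) (t' := coords n (S.basicOpen a))
    (fun i => resMo F hle i) (fun i => isBaseChange_resMo F hU a i) (fun i j v => by
      show res F (V_mono n hle i) (t n U i j • v) = t n (S.basicOpen a) i j • res F (V_mono n hle i) v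
      rw [res_smul, t_res n hle]) 𝔐 𝔑 hgood hcov' K
  refine ⟨m₁, fun m hm => ?_⟩
  rw [← dimAt_eq_dimS hU 𝔐 (hle hsW) K (fun c => ?_) m]
  · exact h₁ m hm
  · show algebraMap Γ(S, S.basicOpen a) K (resR hle c) = 0 ↔ _
    rw [← RingHom.mem_ker, Ideal.ker_algebraMap_residueField, ← Ideal.mem_comap,
      comap_primeIdealOf hU hW hle hsW]
    exact mem_primeIdealOf_iff hU (hle hsW) c

variable [SheafOfModules.IsFiniteType (R := (CohB1.ProjSpaceOver n S).ringCatSheaf) F]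

/-- The dimensions of two models agree in large degree at every common point. -/
theorem exists_dimS_eq {U U' : S.Opens} (hU : IsAffineOpen U) (hU' : IsAffineOpen U') (𝔐 : SheafModel F U)
    (𝔐' : SheafModel F U') (hc : ∀ m g, 𝔐.e m g = g → (fun i => 𝔐.ψ i g) ∈ compat F U m)
    (hc' : ∀ m g, 𝔐'.e m g = g → (fun i => 𝔐'.ψ i g) ∈ compat F U' m) {M₀ : ℕ}
    (hgood : ∀ (K : Type u) [Field K] [Algebra Γ(S, U) K], GoodAt n 𝔐.e M₀ K)
    (hgood' : ∀ (K : Type u) [Field K] [Algebra Γ(S, U') K], GoodAt n 𝔐'.e M₀ K)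
    (s : S) (hs : s ∈ U) (hs' : s ∈ U') :
    ∃ m₁, ∀ m, m₁ ≤ m → dimS hU 𝔐 s hs m = dimS hU' 𝔐' s hs' m := by
  classical
  obtain ⟨a, a', haa', hsa⟩ := exists_basicOpen_le_affine_inter hU hU' s ⟨hs, hs'⟩
  have hle : S.basicOpen a ≤ U := S.basicOpen_le a
  have hle' : S.basicOpen a ≤ U' := haa'.le.trans (S.basicOpen_le a')
  have hW : IsAffineOpen (S.basicOpen a) := hU.basicOpen a
  obtain ⟨E, hE, gens, hgens, hgs⟩ := exists_extra (t := coords n U) 𝔐
  obtain ⟨E', hE', gens', hgens', hgs'⟩ := exists_extra (t := coords n U') 𝔐'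
  let r : ℕ × 𝔐.G → ℕ × ∀ i, Mo F (S.basicOpen a) i := fun q =>
    (q.1, fun i => res F (V_mono n hle i) (𝔐.ψ i q.2))
  let r' : ℕ × 𝔐'.G → ℕ × ∀ i, Mo F (S.basicOpen a) i := fun q =>
    (q.1, fun i => res F (V_mono n hle' i) (𝔐'.ψ i q.2))
  obtain ⟨𝔑, hN, -⟩ := exists_sheafModel F hW (E.image r ∪ E'.image r') fun q hq => by
    rcases Finset.mem_union.1 hq with hq | hq
    · obtain ⟨p, hp, rfl⟩ := Finset.mem_image.1 hq
      exact compat_res F hle (hc _ _ (hE p hp))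
    · obtain ⟨p, hp, rfl⟩ := Finset.mem_image.1 hq
      exact compat_res F hle' (hc' _ _ (hE' p hp))
  obtain ⟨m₁, h₁⟩ := exists_dimS_eq_basicOpen hU hW a rfl 𝔐 𝔑 hgood hle hgens hgs
    (fun q hq => hN (r q) (Finset.mem_union_left _ (Finset.mem_image_of_mem r hq))) s hsa
  obtain ⟨m₂, h₂⟩ := exists_dimS_eq_basicOpen hU' hW a' haa' 𝔐' 𝔑 hgood' hle' hgens' hgs'
    (fun q hq => hN (r' q) (Finset.mem_union_right _ (Finset.mem_image_of_mem r' hq))) s hsa
  exact ⟨max m₁ m₂, fun m hm =>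
    (h₁ m ((le_max_left _ _).trans hm)).trans (h₂ m ((le_max_right _ _).trans hm)).symm⟩

variable (F)

/-- Models over a finite affine cover, good from degree `M` on, with a global dimension function. -/
structure Atlas : Type (u + 1) where
  /-- The index type. -/
  κ : Type u
  [fin : Finite κ]
  /-- The opens. -/
  U : κ → S.Opens
  aff : ∀ k, IsAffineOpen (U k)
  cover : ∀ s, ∃ k, s ∈ U k
  /-- The models. -/
  model : ∀ k, SheafModel F (U k)
  compat_model : ∀ k m g, (model k).e m g = g → (fun i => (model k).ψ i g) ∈ compat F (U k) m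
  /-- The degree from which everything is uniform. -/
  M : ℕ
  good : ∀ k (K : Type u) [Field K] [Algebra Γ(S, U k) K], GoodAt n (model k).e M K
  /-- The dimension function. -/
  h : S → ℕ → ℕ
  h_eq : ∀ k s (hs : s ∈ U k) j, dimS (aff k) (model k) s hs (M + j) = h s j
  finite_h : (Set.range h).Finite

attribute [instance] Atlas.fin

/-- Existence of atlases. -/
theorem nonempty_atlas [IsNoetherian S] : Nonempty (Atlas F) := by
  classical
  obtain ⟨T, hT, hcov⟩ := (isCompact_and_isOpen_iff_finite_and_eq_biUnion_affineOpens.mp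
    ⟨(isCompact_univ : IsCompact (Set.univ : Set S)), isOpen_univ⟩)
  haveI := hT.to_subtype
  let U : T → S.Opens := fun k => k.1.1
  have hU : ∀ k, IsAffineOpen (U k) := fun k => k.1.2
  have hc : ∀ s, ∃ k, s ∈ U k := fun s => by
    have : s ∈ (Set.univ : Set S) := trivial
    rw [hcov] at this
    obtain ⟨W, hW, hsW⟩ := Set.mem_iUnion₂.1 this
    exact ⟨⟨W, hW⟩, hsW⟩
  choose 𝔐 h𝔐 hcompat using fun k => exists_sheafModel F (hU k) ∅ (by simp)
  haveI : ∀ k, IsNoetherianRing Γ(S, U k) := fun k =>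
    IsLocallyNoetherian.component_noetherian ⟨U k, hU k⟩
  choose M H hH using fun k => exists_good (𝔐 k).grading
  haveI := Fintype.ofFinite T
  let M₁ := Finset.univ.sup M
  have hgood : ∀ k (K : Type u) [Field K] [Algebra Γ(S, U k) K], GoodAt n (𝔐 k).e M₁ K := fun k K _ _ =>
    (hH k K).1.mono (Finset.le_sup (Finset.mem_univ k))
  have hdim : ∀ k s (hs : s ∈ U k), (fun m => dimS (hU k) (𝔐 k) s hs m) ∈ H k := fun k s hs => by
    obtain ⟨h, hmem, heq⟩ := (hH k ((hU k).primeIdealOf ⟨s, hs⟩).asIdeal.ResidueField).2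
    rwa [show (fun m => dimS (hU k) (𝔐 k) s hs m) = h from funext heq]
  let All : Finset (ℕ → ℕ) := Finset.univ.biUnion H
  choose g hg using fun p : {p : (ℕ → ℕ) × (ℕ → ℕ) // ∃ m₁, ∀ m, m₁ ≤ m → p.1 m = p.2 m} => p.2
  let Pairs : Finset {p : (ℕ → ℕ) × (ℕ → ℕ) // ∃ m₁, ∀ m, m₁ ≤ m → p.1 m = p.2 m} :=
    (All ×ˢ All).subtype _
  let N := max M₁ (Pairs.sup g)
  have hagree : ∀ k l s (hk : s ∈ U k) (hl : s ∈ U l) m, N ≤ m →
      dimS (hU k) (𝔐 k) s hk m = dimS (hU l) (𝔐 l) s hl m := by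
    intro k l s hk hl m hm
    let p : {p : (ℕ → ℕ) × (ℕ → ℕ) // ∃ m₁, ∀ m, m₁ ≤ m → p.1 m = p.2 m} :=
      ⟨(fun m => dimS (hU k) (𝔐 k) s hk m, fun m => dimS (hU l) (𝔐 l) s hl m),
        exists_dimS_eq (hU k) (hU l) (𝔐 k) (𝔐 l) (hcompat k) (hcompat l) (hgood k) (hgood l) s hk hl⟩
    have hp : p ∈ Pairs := Finset.mem_subtype.2 (Finset.mem_product.2
      ⟨Finset.mem_biUnion.2 ⟨k, Finset.mem_univ k, hdim k s hk⟩,
        Finset.mem_biUnion.2 ⟨l, Finset.mem_univ l, hdim l s hl⟩⟩)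
    exact hg p m ((Finset.le_sup hp).trans ((le_max_right _ _).trans hm))
  choose kk hkk using hc
  refine ⟨{
    κ := T, U := U, aff := hU, cover := fun s => ⟨kk s, hkk s⟩, model := 𝔐, compat_model := hcompat, M := N,
    good := fun k K _ _ => (hgood k K).mono (le_max_left _ _),
    h := fun s j => dimS (hU (kk s)) (𝔐 (kk s)) s (hkk s) (N + j),
    h_eq := fun k s hs j => hagree k (kk s) s hs (hkk s) _ (Nat.le_add_right _ _),
    finite_h := ?_ }⟩
  refine ((All.finite_toSet).image fun h j => h (N + j)).subset ?_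
  rintro _ ⟨s, rfl⟩
  exact ⟨_, Finset.mem_coe.2 (Finset.mem_biUnion.2 ⟨kk s, Finset.mem_univ _, hdim (kk s) s (hkk s)⟩), rfl⟩

end Groth.Agent.Lib.FlatStrat53
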