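import Groth.Agent.Lib.FlatStrat53.Model

/-!
# Models over a ring and over an algebra agree in large degree
-/

set_option autoImplicit false
set_option linter.style.haveILetI false
set_option linter.style.show false

universe u

open TensorProduct

namespace Groth.Agent.Lib.FlatStrat53

section Monomial

variable {A : Type u} [CommRing A] {n : ℕ} {G : Type u} [AddCommGroup G] [Module A G]
  [Module (MvPolynomial (Fin (n + 1)) A) G] {e : ℕ → G →ₗ[A] G}

/-- The parts of a monomial multiple. -/
theorem IsGrading.e_monomial (hg : IsGrading n e) (v : Fin (n + 1) →₀ ℕ) (g : G) (m : ℕ) :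
    e m ((MvPolynomial.monomial v (1 : A) : MvPolynomial (Fin (n + 1)) A) • g) =
      if v.degree ≤ m then
        (MvPolynomial.monomial v (1 : A) : MvPolynomial (Fin (n + 1)) A) • e (m - v.degree) g else 0 := by
  generalize hd : v.degree = d
  induction d generalizing v g m with
  | zero =>
    rw [show v = 0 from (Finsupp.degree_eq_zero_iff v).1 hd]
    simp
  | succ d ih =>
    obtain ⟨j, hj⟩ : ∃ j, v j ≠ 0 := by
      by_contra hc
      simp only [not_exists, not_not] at hc
      rw [show v = 0 from Finsupp.ext hc] at hd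
      simp at hd
    have hv : v = Finsupp.single j 1 + (v - Finsupp.single j 1) :=
      (add_tsub_cancel_of_le (Finsupp.single_le_iff.2 (Nat.one_le_iff_ne_zero.2 hj))).symm
    set w := v - Finsupp.single j 1 with hw
    have hdw : w.degree = d := by
      have h1 := congrArg Finsupp.degree hv
      rw [map_add, Finsupp.degree_single, hd] at h1
      omega
    rw [hv, MvPolynomial.monomial_single_add, pow_one, mul_smul]
    rcases m with _ | m
    · rw [hg.zero, if_neg (by omega)]
    · rw [hg.succ, ih w g m hdw, Nat.succ_sub_succ]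
      split_ifs with h1 h2
      · rw [mul_smul]
      · omega
      · omega
      · rw [smul_zero]

end Monomial

variable {A A' : Type u} [CommRing A] [CommRing A'] [Algebra A A'] {n : ℕ}
  {R : Fin (n + 1) → Type u} [∀ i, CommRing (R i)] {R' : Fin (n + 1) → Type u} [∀ i, CommRing (R' i)]
  {M : Fin (n + 1) → Type u} [∀ i, AddCommGroup (M i)] [∀ i, Module A (M i)] [∀ i, Module (R i) (M i)]
  {M' : Fin (n + 1) → Type u} [∀ i, AddCommGroup (M' i)] [∀ i, Module A (M' i)] [∀ i, Module A' (M' i)]
  [∀ i, IsScalarTower A A' (M' i)] [∀ i, Module (R' i) (M' i)]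
  {t : ∀ i, Fin (n + 1) → R i} {t' : ∀ i, Fin (n + 1) → R' i}

/-- Finitely many elements which the model of the smaller ring has to contain. -/
theorem exists_extra (𝔐 : Model (A := A) t M) :
    ∃ s : Finset (ℕ × 𝔐.G), (∀ q ∈ s, 𝔐.e q.1 q.2 = q.2) ∧ ∃ gens : Finset 𝔐.G,
      Submodule.span (MvPolynomial (Fin (n + 1)) A) (gens : Set 𝔐.G) = ⊤ ∧
      ∀ g ∈ gens, ∀ d, (d, 𝔐.e d g) ∈ s ∨ 𝔐.e d g = 0 := by
  classical
  obtain ⟨gens, hgens⟩ :=
    (inferInstance : Module.Finite (MvPolynomial (Fin (n + 1)) A) 𝔐.G).fg_top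
  choose B hB using 𝔐.grading.eventually
  refine ⟨gens.biUnion fun g => (Finset.range (B g)).image fun d => (d, 𝔐.e d g), fun q hq => ?_,
    gens, hgens, fun g hg d => ?_⟩
  · obtain ⟨g, -, hq⟩ := Finset.mem_biUnion.1 hq
    obtain ⟨d, -, rfl⟩ := Finset.mem_image.1 hq
    exact 𝔐.grading.idem d g
  · rcases lt_or_ge d (B g) with h | h
    · exact Or.inl (Finset.mem_biUnion.2 ⟨g, hg, Finset.mem_image.2 ⟨d, Finset.mem_range.2 h, rfl⟩⟩)
    · exact Or.inr (hB g d h)

variable (r : ∀ i, M i →ₗ[A] M' i) (hr : ∀ i, IsBaseChange A' (r i))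
  (hrt : ∀ i j v, r i (t i j • v) = t' i j • r i v) (𝔐 : Model (A := A) t M) (𝔐' : Model (A := A') t' M')

include hrt in
/-- All homogeneous parts restrict into the smaller model, once the chosen elements do. -/
theorem cover_of_extra (hcommA : ∀ i (a : A) j (v : M' i), t' i j • a • v = a • t' i j • v)
    {s : Finset (ℕ × 𝔐.G)} {gens : Finset 𝔐.G}
    (hgens : Submodule.span (MvPolynomial (Fin (n + 1)) A) (gens : Set 𝔐.G) = ⊤)
    (hs : ∀ g ∈ gens, ∀ d, (d, 𝔐.e d g) ∈ s ∨ 𝔐.e d g = 0)
    (hcov : ∀ q ∈ s, ∃ g', 𝔐'.e q.1 g' = g' ∧ ∀ i, 𝔐'.ψ i g' = r i (𝔐.ψ i q.2)) :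
    ∀ g m, ∃ g', 𝔐'.e m g' = g' ∧ ∀ i, 𝔐'.ψ i g' = r i (𝔐.ψ i (𝔐.e m g)) := by
  intro g
  have hg : g ∈ Submodule.span (MvPolynomial (Fin (n + 1)) A) (gens : Set 𝔐.G) := by rw [hgens]; trivial
  induction hg using Submodule.span_induction with
  | mem g hg =>
    intro m
    rcases hs g hg m with h | h
    · exact hcov _ h
    · exact ⟨0, map_zero _, fun i => by rw [h, map_zero, map_zero, map_zero]⟩
  | zero => exact fun m => ⟨0, map_zero _, fun i => by simp⟩
  | add a b _ _ ha hb =>
    intro m
    obtain ⟨x, hx, hx'⟩ := ha m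
    obtain ⟨y, hy, hy'⟩ := hb m
    exact ⟨x + y, by rw [map_add, hx, hy], fun i => by simp [hx', hy']⟩
  | smul p a _ ha =>
    induction p using MvPolynomial.induction_on generalizing a with
    | C c =>
      intro m
      obtain ⟨x, hx, hx'⟩ := ha m
      refine ⟨algebraMap A A' c • x, by rw [map_smul, hx], fun i => ?_⟩
      rw [show (MvPolynomial.C c : MvPolynomial (Fin (n + 1)) A) • a = c • a from algebraMap_smul _ c a,
        map_smul, map_smul, map_smul, map_smul, algebraMap_smul, hx']
    | add p q hp hq =>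
      intro m
      obtain ⟨x, hx, hx'⟩ := hp a ‹_› ha m
      obtain ⟨y, hy, hy'⟩ := hq a ‹_› ha m
      exact ⟨x + y, by rw [map_add, hx, hy], fun i => by rw [add_smul]; simp [hx', hy']⟩
    | mul_X p j hp =>
      intro m
      rw [mul_smul]
      refine hp _ (Submodule.smul_mem _ _ ‹_›) (fun m => ?_) m
      rcases m with _ | m
      · exact ⟨0, map_zero _, fun i => by rw [𝔐.grading.zero, map_zero, map_zero, map_zero]⟩
      · obtain ⟨x, hx, hx'⟩ := ha m
        exact ⟨(MvPolynomial.X j : MvPolynomial (Fin (n + 1)) A') • x, by rw [𝔐'.grading.succ, hx],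
          fun i => by rw [𝔐'.smul, hx', 𝔐.grading.succ, 𝔐.smul, hrt]⟩

variable [Module.Finite (MvPolynomial (Fin (n + 1)) A) 𝔐.G]

include hr hrt in
/-- At every point the dimensions of the parts agree in large degree. -/
theorem exists_dimAt_eq {M₀ : ℕ} (hgood : ∀ (K : Type u) [Field K] [Algebra A K], GoodAt n 𝔐.e M₀ K)
    (hcov : ∀ g m, ∃ g', 𝔐'.e m g' = g' ∧ ∀ i, 𝔐'.ψ i g' = r i (𝔐.ψ i (𝔐.e m g)))
    (K : Type u) [Field K] [Algebra A K] [Algebra A' K] [IsScalarTower A A' K] :
    ∃ m₁, ∀ m, m₁ ≤ m → dimAt 𝔐.e K m = dimAt 𝔐'.e K m := by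
  classical
  let Gm := fun m => LinearMap.range (𝔐.e m)
  let G'm := fun m => LinearMap.range (𝔐'.e m)
  letI : Module A 𝔐'.G := Module.compHom _ (algebraMap A A')
  haveI : IsScalarTower A A' 𝔐'.G := IsScalarTower.of_algebraMap_smul fun _ _ => rfl
  have uniq : ∀ m (x y : 𝔐'.G), 𝔐'.e m x = x → 𝔐'.e m y = y → (∀ i, 𝔐'.ψ i x = 𝔐'.ψ i y) → x = y :=
    fun m x y hx hy h => sub_eq_zero.1 (𝔐'.inj m _ (by rw [map_sub, hx, hy])
      fun i => by rw [map_sub, h i, sub_self])
  choose ρ₀ hρe hρψ using hcov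
  let ρ : ∀ m, Gm m →ₗ[A] 𝔐'.G := fun m =>
    { toFun := fun g => ρ₀ g.1 m
      map_add' := fun a b => uniq m _ _ (hρe _ _) (by rw [map_add, hρe, hρe]) fun i => by
        rw [map_add, hρψ, hρψ, hρψ, Submodule.coe_add, map_add, map_add, map_add]
      map_smul' := fun c a => uniq m _ _ (hρe _ _) (by
          rw [RingHom.id_apply, LinearMap.map_smul_of_tower, hρe]) fun i => by
        rw [RingHom.id_apply, LinearMap.map_smul_of_tower, hρψ, hρψ, Submodule.coe_smul, map_smul, map_smul,
          map_smul] }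
  have hρψ' : ∀ m (g : Gm m) i, 𝔐'.ψ i (ρ m g) = r i (𝔐.ψ i g.1) := fun m g i => by
    obtain ⟨_, g₀, rfl⟩ := g
    show 𝔐'.ψ i (ρ₀ _ m) = _
    rw [hρψ, 𝔐.grading.idem]
  let f : ∀ m, K ⊗[A] Gm m →ₗ[K] K ⊗[A'] 𝔐'.G := fun m =>
    LinearMap.liftBaseChange K ((TensorProduct.mk A' K 𝔐'.G 1).restrictScalars A ∘ₗ ρ m)
  let η : ∀ i, K ⊗[A] M i →ₗ[K] K ⊗[A'] M' i := fun i =>
    LinearMap.liftBaseChange K ((TensorProduct.mk A' K (M' i) 1).restrictScalars A ∘ₗ r i)
  have hη : ∀ i, Function.Bijective (η i) := fun i => by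
    have : η i = ((AlgebraTensorModule.cancelBaseChange A A' K K (M i)).symm.trans
        (LinearEquiv.baseChange A' K _ _ (hr i).equiv)).toLinearMap := by
      refine LinearMap.ext fun z => ?_
      induction z with
      | zero => simp
      | add a b ha hb => simp only [map_add, ha, hb]
      | tmul a v => simp [η, IsBaseChange.equiv_tmul, TensorProduct.smul_tmul']
    rw [this]
    exact LinearEquiv.bijective _
  have hfψ : ∀ m i z, (𝔐'.ψ i).baseChange K (f m z) = η i ((toChart 𝔐.e 𝔐.ψ i m).baseChange K z) := by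
    intro m i z
    induction z with
    | zero => simp
    | add a b ha hb => simp only [map_add, ha, hb]
    | tmul a v => simp [f, η, TensorProduct.smul_tmul', hρψ']
  have hfe : ∀ m z, (𝔐'.e m).baseChange K (f m z) = f m z := by
    intro m z
    induction z with
    | zero => simp
    | add a b ha hb => simp only [map_add, ha, hb]
    | tmul a v =>
      simp only [f, LinearMap.liftBaseChange_tmul, LinearMap.coe_comp, Function.comp_apply,
        LinearMap.coe_restrictScalars, TensorProduct.mk_apply, map_smul, LinearMap.baseChange_tmul]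
      rw [show 𝔐'.e m (ρ m v) = ρ m v from hρe _ _]
  let g : ∀ m, K ⊗[A] Gm m →ₗ[K] K ⊗[A'] G'm m := fun m => (proj 𝔐'.e m).baseChange K ∘ₗ f m
  have hgf : ∀ m z, (incl 𝔐'.e m).baseChange K (g m z) = f m z := fun m z => by
    show (incl 𝔐'.e m).baseChange K ((proj 𝔐'.e m).baseChange K (f m z)) = _
    rw [← baseChange_comp_apply, incl_comp_proj, hfe]
  have hginj : ∀ m, M₀ ≤ m → Function.Injective (g m) := fun m hm =>
    (injective_iff_map_eq_zero _).2 fun z hz => by
      refine eq_zero_of_toChart_eq_zero 𝔐.grading 𝔐.charts (hgood K) hm z fun i => (hη i).1 ?_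
      rw [← hfψ, ← hgf, hz, map_zero, map_zero, map_zero]
  -- the image is stable under the variables
  let Im : ℕ → Submodule K (K ⊗[A'] 𝔐'.G) := fun m => LinearMap.range (f m)
  have hImX : ∀ m (j : Fin (n + 1)) z, z ∈ Im m → (xL A' 𝔐'.G j).baseChange K z ∈ Im (m + 1) := by
    rintro m j _ ⟨z, rfl⟩
    refine ⟨((proj 𝔐.e (m + 1)).baseChange K ((xL A 𝔐.G j).baseChange K ((incl 𝔐.e m).baseChange K z))), ?_⟩
    induction z with
    | zero => simp
    | add a b ha hb => simp only [map_add, ha, hb]
    | tmul a v =>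
      simp only [f, LinearMap.baseChange_tmul, LinearMap.liftBaseChange_tmul, LinearMap.coe_comp,
        Function.comp_apply, LinearMap.coe_restrictScalars, TensorProduct.mk_apply, map_smul]
      congr 2
      refine uniq (m + 1) _ _ (hρe _ _) ?_ fun i => ?_
      · rw [xL_apply, 𝔐'.grading.succ]
        exact congrArg _ (hρe _ _)
      · rw [hρψ', xL_apply, xL_apply, 𝔐'.smul, hρψ', ← hrt]
        show r i (𝔐.ψ i (𝔐.e (m + 1) _)) = _
        obtain ⟨_, g₀, rfl⟩ := v
        show r i (𝔐.ψ i (𝔐.e (m + 1) ((MvPolynomial.X j : MvPolynomial (Fin (n + 1)) A) • 𝔐.e m g₀))) =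
          r i (t i j • 𝔐.ψ i (𝔐.e m g₀))
        rw [𝔐.grading.succ, 𝔐.smul, 𝔐.grading.idem]
  have hImXp : ∀ (i : Fin (n + 1)) p m z, z ∈ Im m → ((xL A' 𝔐'.G i) ^ p).baseChange K z ∈ Im (m + p) := by
    intro i p
    induction p with
    | zero => intro m z hz; rwa [pow_zero, Module.End.one_eq_id, LinearMap.baseChange_id]
    | succ p ih =>
      intro m z hz
      rw [pow_succ', Module.End.mul_eq_comp, baseChange_comp_apply, ← add_assoc]
      exact hImX _ i _ (ih m z hz)
  -- each generator is eventually in the image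
  have hsmall : ∀ (d : ℕ) (x : 𝔐'.G), 𝔐'.e d x = x → ∀ i : Fin (n + 1), ∃ q : ℕ, ∀ q' : ℕ, q ≤ q' →
      ((xL A' 𝔐'.G i) ^ q').baseChange K ((1 : K) ⊗ₜ x) ∈ Im (d + q') := by
    intro d x hx i
    obtain ⟨v, hv⟩ := (hη i).2 ((1 : K) ⊗ₜ 𝔐'.ψ i x)
    obtain ⟨l₀, hl₀⟩ := exists_baseChange_eq 𝔐.grading 𝔐.charts K i v
    let l := max l₀ d
    obtain ⟨z, hz⟩ := hl₀ l (le_max_left _ _)
    let y : K ⊗[A'] 𝔐'.G := ((xL A' 𝔐'.G i) ^ (l - d)).baseChange K ((1 : K) ⊗ₜ x) - f l z
    have hye : (𝔐'.e l).baseChange K y = y := by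
      rw [map_sub, hfe, ← baseChange_comp_apply]
      nth_rw 1 [show l = d + (l - d) from (Nat.add_sub_cancel' (le_max_right _ _)).symm]
      rw [𝔐'.grading.comp_xL_pow, baseChange_comp_apply, LinearMap.baseChange_tmul, hx]
    have hyψ : (toChart 𝔐'.e 𝔐'.ψ i l).baseChange K ((proj 𝔐'.e l).baseChange K y) = 0 := by
      rw [← baseChange_comp_apply, LinearMap.comp_assoc, incl_comp_proj, baseChange_comp_apply, hye,
        map_sub, hfψ, hz, hv, ← baseChange_comp_apply, LinearMap.baseChange_tmul, LinearMap.comp_apply,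
        psi_pow 𝔐'.charts, sub_self]
    obtain ⟨l', hll', hl'⟩ := exists_baseChange_eq_zero 𝔐'.grading 𝔐'.charts K i l _ hyψ
    have hy0 : ((xL A' 𝔐'.G i) ^ (l' - l)).baseChange K y = 0 := by
      have := congrArg ((incl 𝔐'.e l').baseChange K) hl'
      rwa [map_zero, ← baseChange_comp_apply, incl_comp_trans 𝔐'.grading i hll',
        ← baseChange_comp_apply, LinearMap.comp_assoc, incl_comp_proj, baseChange_comp_apply, hye] at this
    refine ⟨l' - d, fun q' hq' => ?_⟩
    have hm1 : l' - l + (l - d) ≤ q' := by omega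
    rw [map_sub, sub_eq_zero, ← baseChange_comp_apply, ← Module.End.mul_eq_comp, ← pow_add] at hy0
    rw [← Nat.sub_add_cancel hm1, pow_add, Module.End.mul_eq_comp, baseChange_comp_apply, hy0]
    have := hImXp i (q' - (l' - l + (l - d))) _ _ (hImXp i (l' - l) l _ ⟨z, rfl⟩)
    rwa [show l + (l' - l) + (q' - (l' - l + (l - d))) = d + (q' - (l' - l + (l - d)) + (l' - l + (l - d))) from
      by omega] at this
  obtain ⟨gens, hgens⟩ :=
    (inferInstance : Module.Finite (MvPolynomial (Fin (n + 1)) A') 𝔐'.G).fg_top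
  choose D hD using 𝔐'.grading.eventually
  let Dmax := gens.sup D
  choose q hq using fun (x : 𝔐'.G) d i => hsmall d (𝔐'.e d x) (𝔐'.grading.idem d x) i
  let Q := gens.sup fun x => (Finset.range (Dmax + 1)).sup fun d => Finset.univ.sup fun i => q x d i
  refine ⟨max M₀ (Dmax + (n + 1) * Q + 1), fun m hm => ?_⟩
  have hsurj : Function.Surjective (g m) := by
    intro w
    suffices (incl 𝔐'.e m).baseChange K w ∈ Im m by
      obtain ⟨z, hz⟩ := this
      refine ⟨z, ?_⟩
      show (proj 𝔐'.e m).baseChange K (f m z) = w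
      rw [hz, ← baseChange_comp_apply, 𝔐'.grading.proj_comp_incl, LinearMap.baseChange_id]
      rfl
    induction w with
    | zero => rw [map_zero]; exact zero_mem _
    | add a b ha hb => rw [map_add]; exact add_mem ha hb
    | tmul c x =>
      rw [LinearMap.baseChange_tmul]
      suffices (1 : K) ⊗ₜ[A'] (x : 𝔐'.G) ∈ Im m by
        have h1 := (Im m).smul_mem c this
        rwa [TensorProduct.smul_tmul', smul_eq_mul, mul_one] at h1
      obtain ⟨_, x₀, rfl⟩ := x
      show (1 : K) ⊗ₜ[A'] 𝔐'.e m x₀ ∈ Im m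
      let J : Submodule A' 𝔐'.G := ((Im m).restrictScalars A').comap (TensorProduct.mk A' K 𝔐'.G 1)
      show 𝔐'.e m x₀ ∈ J
      have hx₀ : x₀ ∈ Submodule.span (MvPolynomial (Fin (n + 1)) A') (gens : Set 𝔐'.G) := by
        rw [hgens]; trivial
      rw [Submodule.mem_span_finset] at hx₀
      obtain ⟨c, -, rfl⟩ := hx₀
      rw [map_sum]
      refine J.sum_mem fun x hx => ?_
      rw [MvPolynomial.as_sum (c x), Finset.sum_smul, map_sum]
      refine J.sum_mem fun v _ => ?_
      rw [show MvPolynomial.monomial v ((c x).coeff v) =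
          (c x).coeff v • (MvPolynomial.monomial v (1 : A') : MvPolynomial (Fin (n + 1)) A') from
          by rw [MvPolynomial.smul_monomial, smul_eq_mul, mul_one], smul_assoc, map_smul]
      refine J.smul_mem _ ?_
      rw [𝔐'.grading.e_monomial]
      split_ifs with hv
      · rcases le_or_gt (D x) (m - v.degree) with hdx | hdx
        · rw [hD x _ hdx, smul_zero]; exact zero_mem _
        · have hDx : D x ≤ Dmax := Finset.le_sup hx
          obtain ⟨i, hi⟩ : ∃ i, Q ≤ v i := by
            by_contra hc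
            simp only [not_exists, not_le] at hc
            have h2 : v.degree ≤ (n + 1) * Q := by
              rw [Finsupp.degree_eq_sum]
              exact (Finset.sum_le_sum fun i _ => (hc i).le).trans (by simp)
            omega
          set d := m - v.degree with hd
          have hdm : d ≤ Dmax := by omega
          have hQ : q x d i ≤ v i := by
            refine le_trans ?_ hi
            exact ((Finset.le_sup (f := fun i => q x d i) (Finset.mem_univ i)).trans
              (Finset.le_sup (f := fun d => Finset.univ.sup fun i => q x d i)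
                (Finset.mem_range.2 (Nat.lt_succ_of_le hdm)))).trans
              (Finset.le_sup (f := fun x => (Finset.range (Dmax + 1)).sup fun d =>
                Finset.univ.sup fun i => q x d i) hx)
          have hbase := hq x d i (v i) hQ
          rw [LinearMap.baseChange_tmul, xL_pow_apply] at hbase
          have hrest : ∀ (w : Fin (n + 1) →₀ ℕ) (d' : ℕ) (y : 𝔐'.G), (1 : K) ⊗ₜ[A'] y ∈ Im d' →
              (1 : K) ⊗ₜ[A'] ((MvPolynomial.monomial w (1 : A') : MvPolynomial (Fin (n + 1)) A') • y) ∈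
                Im (d' + w.degree) := by
            intro w
            induction w using Finsupp.induction with
            | zero => intro d' y hy; simpa using hy
            | single_add a b w _ _ ih =>
              intro d' y hy
              rw [MvPolynomial.monomial_single_add, mul_smul, map_add, Finsupp.degree_single, ← xL_pow_apply,
                ← LinearMap.baseChange_tmul, show d' + (b + w.degree) = d' + w.degree + b by ring]
              exact hImXp a b _ _ (ih d' y hy)
          have hfin := hrest (v.erase i) _ _ hbase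
          rw [← mul_smul, MvPolynomial.X_pow_eq_monomial, MvPolynomial.monomial_mul, one_mul,
            Finsupp.erase_add_single] at hfin
          have hdeg : v.degree = (v.erase i).degree + v i := by
            rw [← Finsupp.degree_single i (v i), ← map_add, Finsupp.erase_add_single]
          rwa [show d + v i + (v.erase i).degree = m by omega] at hfin
      · exact zero_mem _
  exact (LinearEquiv.ofBijective (g m) ⟨hginj m ((le_max_left _ _).trans hm), hsurj⟩).finrank_eq

end Groth.Agent.Lib.FlatStrat53
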