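import Groth.Agent.Lib.FlatStrat53.Graded
import Groth.Agent.H25.Fitting
import Groth.Agent.H25.FittingLoc
import Mathlib.RingTheory.Flat.Localization
import Mathlib.RingTheory.LocalRing.ResidueField.Ideal
import Mathlib.RingTheory.Nakayama

/-!
# Flatness of dehomogenisations through the homogeneous parts, and Fitting ideals
-/

set_option autoImplicit false
set_option linter.style.haveILetI false
set_option linter.style.show false

universe u

open TensorProduct

namespace Groth.Agent.Lib.FlatStrat53

variable {A : Type u} [CommRing A] {n : ℕ} {G : Type u} [AddCommGroup G] [Module A G]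
  [Module (MvPolynomial (Fin (n + 1)) A) G] [IsScalarTower A (MvPolynomial (Fin (n + 1)) A) G]
  {e : ℕ → G →ₗ[A] G} {M : Fin (n + 1) → Type u} [∀ i, AddCommGroup (M i)] [∀ i, Module A (M i)]

/-- `ψ i` exhibits `M i` as the dehomogenisation of `G` at the `i`-th variable. -/
structure IsCharts (n : ℕ) {G : Type u} [AddCommGroup G] [Module A G]
    [Module (MvPolynomial (Fin (n + 1)) A) G] (e : ℕ → G →ₗ[A] G)
    {M : Fin (n + 1) → Type u} [∀ i, AddCommGroup (M i)] [∀ i, Module A (M i)]
    (ψ : ∀ i, G →ₗ[A] M i) : Prop where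
  shift : ∀ i g, ψ i ((MvPolynomial.X i : MvPolynomial (Fin (n + 1)) A) • g) = ψ i g
  ker : ∀ i m g, e m g = g → ψ i g = 0 →
    ∃ p : ℕ, (MvPolynomial.X i : MvPolynomial (Fin (n + 1)) A) ^ p • g = 0
  surj : ∀ i v, ∃ m g, e m g = g ∧ ψ i g = v

variable {ψ : ∀ i, G →ₗ[A] M i} (hg : IsGrading n e) (hc : IsCharts n e ψ)

section Colimit

variable (n e) in
/-- The transition maps between homogeneous parts. -/
noncomputable def trans (i : Fin (n + 1)) (l l' : ℕ) (_ : l ≤ l') :
    LinearMap.range (e l) →ₗ[A] LinearMap.range (e l') :=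
  proj e l' ∘ₗ (xL A G i ^ (l' - l)) ∘ₗ incl e l

include hg in
theorem incl_comp_trans (i : Fin (n + 1)) {l l' : ℕ} (h : l ≤ l') :
    incl e l' ∘ₗ trans n e i l l' h = (xL A G i ^ (l' - l)) ∘ₗ incl e l := by
  obtain ⟨d, rfl⟩ := Nat.exists_eq_add_of_le h
  rw [trans, ← LinearMap.comp_assoc, incl_comp_proj, ← LinearMap.comp_assoc, Nat.add_sub_cancel_left,
    hg.comp_xL_pow, LinearMap.comp_assoc, hg.e_comp_incl]

include hg in
theorem directedSystem (i : Fin (n + 1)) :
    DirectedSystem (fun l => LinearMap.range (e l)) (fun l l' h => trans n e i l l' h) where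
  map_self l x := Subtype.ext <| by
    have := LinearMap.congr_fun (incl_comp_trans hg i le_rfl (l := l)) x
    simpa using this
  map_map c b a hab hbc x := Subtype.ext <| by
    have h1 := LinearMap.congr_fun (incl_comp_trans hg i hab) x
    have h2 := LinearMap.congr_fun (incl_comp_trans hg i hbc) (trans n e i a b hab x)
    have h3 := LinearMap.congr_fun (incl_comp_trans hg i (hab.trans hbc)) x
    simp only [LinearMap.comp_apply, Submodule.subtype_apply] at h1 h2 h3
    rw [h2, h1, h3, ← Module.End.mul_apply, ← pow_add]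
    congr 3
    omega

include hc in
theorem psi_pow (i : Fin (n + 1)) (p : ℕ) (g : G) : ψ i ((xL A G i ^ p) g) = ψ i g := by
  induction p with
  | zero => simp
  | succ p ih => rw [pow_succ', Module.End.mul_apply, xL_apply, hc.shift, ih]

variable (e ψ) in
/-- The dehomogenisation on the part of degree `l`. -/
noncomputable abbrev toChart (i : Fin (n + 1)) (l : ℕ) : LinearMap.range (e l) →ₗ[A] M i :=
  ψ i ∘ₗ incl e l

include hg hc in
theorem toChart_comp_trans (i : Fin (n + 1)) {l l' : ℕ} (h : l ≤ l') :
    toChart e ψ i l' ∘ₗ trans n e i l l' h = toChart e ψ i l := by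
  rw [toChart, LinearMap.comp_assoc, incl_comp_trans hg i h]
  exact LinearMap.ext fun x => psi_pow hc i _ _

include hg hc in
theorem exists_directLimit_equiv (i : Fin (n + 1)) :
    ∃ L : Module.DirectLimit (fun l => LinearMap.range (e l)) (trans n e i) ≃ₗ[A] M i,
      ∀ l x, L (Module.DirectLimit.of A ℕ _ (trans n e i) l x) = toChart e ψ i l x := by
  haveI := directedSystem hg i
  let L₀ := Module.DirectLimit.lift A ℕ (fun l => LinearMap.range (e l)) (trans n e i) (toChart e ψ i)
    fun l l' h x => LinearMap.congr_fun (toChart_comp_trans hg hc i h) x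
  have hL : Function.Bijective L₀ := by
    refine ⟨(injective_iff_map_eq_zero L₀).2 fun z hz => ?_, fun v => ?_⟩
    · obtain ⟨l, x, rfl⟩ := Module.DirectLimit.exists_of z
      rw [Module.DirectLimit.lift_of] at hz
      obtain ⟨p, hp⟩ := hc.ker i l x.1 (LinearMap.congr_fun (hg.e_comp_incl l) x) hz
      rw [← Module.DirectLimit.of_f (hij := Nat.le_add_right l p), show trans n e i l (l + p) _ x = 0 from
        Subtype.ext ((LinearMap.congr_fun (incl_comp_trans hg i (Nat.le_add_right l p)) x).trans (by
          rw [Nat.add_sub_cancel_left, LinearMap.comp_apply, xL_pow_apply]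
          exact hp)), map_zero]
    · obtain ⟨l, g, hlg, rfl⟩ := hc.surj i v
      exact ⟨Module.DirectLimit.of A ℕ _ (trans n e i) l ⟨g, g, hlg⟩, Module.DirectLimit.lift_of _ _ _⟩
  exact ⟨LinearEquiv.ofBijective L₀ hL, fun l x => by
    show L₀ _ = _
    exact Module.DirectLimit.lift_of _ _ _⟩

variable (B : Type u) [CommRing B] [Algebra A B]

include hg hc in
theorem exists_baseChange_eq (i : Fin (n + 1)) (v : B ⊗[A] M i) :
    ∃ l₀, ∀ l, l₀ ≤ l → ∃ z, (toChart e ψ i l).baseChange B z = v := by
  induction v with
  | zero => exact ⟨0, fun l _ => ⟨0, map_zero _⟩⟩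
  | tmul b y =>
    obtain ⟨l, g, hlg, rfl⟩ := hc.surj i y
    refine ⟨l, fun l' hl' => ⟨b ⊗ₜ trans n e i l l' hl' ⟨g, g, hlg⟩, ?_⟩⟩
    rw [LinearMap.baseChange_tmul, ← LinearMap.comp_apply, toChart_comp_trans hg hc i hl']
    rfl
  | add v w hv hw =>
    obtain ⟨a, ha⟩ := hv
    obtain ⟨b, hb⟩ := hw
    refine ⟨max a b, fun l hl => ?_⟩
    obtain ⟨z, hz⟩ := ha l ((le_max_left _ _).trans hl)
    obtain ⟨w', hw'⟩ := hb l ((le_max_right _ _).trans hl)
    exact ⟨z + w', by rw [map_add, hz, hw']⟩

include hg hc in
theorem exists_baseChange_eq_zero (i : Fin (n + 1)) (l : ℕ) (z : B ⊗[A] LinearMap.range (e l))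
    (hz : (toChart e ψ i l).baseChange B z = 0) :
    ∃ (l' : ℕ) (h : l ≤ l'), (trans n e i l l' h).baseChange B z = 0 := by
  haveI := directedSystem hg i
  obtain ⟨L, hL⟩ := exists_directLimit_equiv hg hc i
  let D := Module.DirectLimit (fun l => LinearMap.range (e l)) (trans n e i)
  let o : LinearMap.range (e l) →ₗ[A] D := Module.DirectLimit.of A ℕ _ (trans n e i) l
  have h1 : (o.baseChange B) z = 0 := by
    apply (LinearEquiv.baseChange A B D (M i) L).injective
    rw [map_zero, ← hz]
    clear hz
    induction z with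
    | zero => simp
    | add a b ha hb => simp only [map_add, ha, hb]
    | tmul b x => simp [o, D, hL]
  have h2 : ∀ y : B ⊗[A] LinearMap.range (e l),
      TensorProduct.directLimitRight (trans n e i) B (o.baseChange B y) =
        Module.DirectLimit.of A ℕ _ _ l y := fun y => by
    induction y with
    | zero => simp
    | add a b ha hb => simp only [map_add, ha, hb]
    | tmul b x =>
      rw [LinearMap.baseChange_tmul]
      exact TensorProduct.directLimitRight_tmul_of (trans n e i) B b x
  have h3 := h2 z
  rw [h1, map_zero] at h3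
  haveI : DirectedSystem (fun l => B ⊗[A] LinearMap.range (e l))
      (fun l l' h => (trans n e i l l' h).lTensor B) :=
    { map_self := fun l x => by
        rw [show trans n e i l l le_rfl = LinearMap.id from LinearMap.ext fun y =>
          DirectedSystem.map_self (f := fun l l' h => trans n e i l l' h) y, LinearMap.lTensor_id]
        rfl
      map_map := fun c b a hab hbc x => by
        rw [← LinearMap.lTensor_comp_apply]
        congr 2
        exact LinearMap.ext fun y => DirectedSystem.map_map (f := fun l l' h => trans n e i l l' h) hab hbc y }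
  obtain ⟨l', h, hl'⟩ := Module.DirectLimit.of.zero_exact h3.symm
  exact ⟨l', h, hl'⟩

include hg hc in
/-- If the parts of large degree become flat, so do the dehomogenisations. -/
theorem flat_chart {M₀ : ℕ} (hflat : ∀ m, M₀ ≤ m → Module.Flat B (B ⊗[A] LinearMap.range (e m)))
    (i : Fin (n + 1)) : Module.Flat B (B ⊗[A] M i) := by
  classical
  rw [Module.Flat.iff_forall_isTrivialRelation]
  intro r f v hv
  choose l₀ hl₀ using fun k => exists_baseChange_eq hg hc B i (v k)
  let l := max M₀ (Finset.univ.sup l₀)
  choose z hz using fun k => hl₀ k l ((Finset.le_sup (Finset.mem_univ k)).trans (le_max_right _ _))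
  have h0 : (toChart e ψ i l).baseChange B (∑ k, f k • z k) = 0 := by
    rw [map_sum]
    simp only [map_smul, hz]
    exact hv
  obtain ⟨l', hll', hl'⟩ := exists_baseChange_eq_zero hg hc B i l _ h0
  haveI := hflat l' ((le_max_left _ _).trans hll')
  rw [map_sum] at hl'
  simp only [map_smul] at hl'
  obtain ⟨k, a, y, hay, ha⟩ := Module.Flat.isTrivialRelation_of_sum_smul_eq_zero hl'
  refine ⟨k, a, fun j => (toChart e ψ i l').baseChange B (y j), fun j => ?_, ha⟩
  have := congrArg ((toChart e ψ i l').baseChange B) (hay j)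
  rw [map_sum, ← baseChange_comp_apply, toChart_comp_trans hg hc i hll', hz] at this
  simpa only [map_smul] using this

end Colimit

section Flat

variable {M₀ : ℕ} [Module.Finite (MvPolynomial (Fin (n + 1)) A) G]

include hg hc in
theorem eq_zero_of_toChart_eq_zero {K : Type u} [CommRing K] [Algebra A K] (hK : GoodAt n e M₀ K) {m : ℕ}
    (hm : M₀ ≤ m) (z : K ⊗[A] LinearMap.range (e m))
    (hz : ∀ i, (toChart e ψ i m).baseChange K z = 0) : z = 0 := by
  have hinj : ∀ y : K ⊗[A] LinearMap.range (e m), (incl e m).baseChange K y = 0 → y = 0 := fun y hy => by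
    have := congrArg ((proj e m).baseChange K) hy
    rwa [map_zero, ← baseChange_comp_apply, hg.proj_comp_incl, LinearMap.baseChange_id] at this
  refine hinj z (hK.eq_zero_of_pow hg hm _ ?_ fun i => ?_)
  · rw [← baseChange_comp_apply, hg.e_comp_incl]
  · obtain ⟨l', h, hl'⟩ := exists_baseChange_eq_zero hg hc K i m z (hz i)
    refine ⟨l' - m, ?_⟩
    rw [← baseChange_comp_apply, ← incl_comp_trans hg i h, baseChange_comp_apply, hl', map_zero]

include hg hc in
/-- Over a local ring, flat dehomogenisations force free parts of large degree. -/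
theorem free_part_of_flat_chart (hgood : ∀ (K : Type u) [Field K] [Algebra A K], GoodAt n e M₀ K)
    (B : Type u) [CommRing B] [IsLocalRing B] [Algebra A B] (hflat : ∀ i, Module.Flat B (B ⊗[A] M i))
    {m : ℕ} (hm : M₀ ≤ m) : Module.Free B (B ⊗[A] LinearMap.range (e m)) := by
  classical
  haveI := hg.finite_range m
  let N := B ⊗[A] LinearMap.range (e m)
  haveI : Module.Finite B N := Module.Finite.base_change A B _
  let k := IsLocalRing.ResidueField B
  let F := ∀ i, B ⊗[A] M i
  haveI : Module.Flat B F := by
    haveI := hflat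
    exact Module.Flat.of_linearEquiv
      (DFinsupp.linearEquivFunOnFintype : (Π₀ i, B ⊗[A] M i) ≃ₗ[B] F).symm
  let ρ : N →ₗ[B] F := LinearMap.pi fun i => (toChart e ψ i m).baseChange B
  let ι := Module.Free.ChooseBasisIndex k (k ⊗[B] N)
  let b := Module.Free.chooseBasis k (k ⊗[B] N)
  choose v hv using fun j => TensorProduct.mk_surjective B N k Ideal.Quotient.mk_surjective (b j)
  have hspan : Submodule.span B (Set.range v) = ⊤ := by
    apply IsLocalRing.span_eq_top_of_tmul_eq_basis v b hv
  have hinj : Function.Injective (ρ.baseChange k) := by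
    refine (injective_iff_map_eq_zero _).2 fun z hz => ?_
    let cN := AlgebraTensorModule.cancelBaseChange A B k k (LinearMap.range (e m))
    apply cN.injective
    rw [map_zero]
    refine eq_zero_of_toChart_eq_zero hg hc (hgood k) hm _ fun i => ?_
    rw [← cancelBaseChange_baseChange]
    have h1 := congrArg ((LinearMap.proj i : F →ₗ[B] B ⊗[A] M i).baseChange k) hz
    rw [map_zero, ← LinearMap.comp_apply, ← LinearMap.baseChange_comp] at h1
    rw [show (toChart e ψ i m).baseChange B = LinearMap.proj i ∘ₗ ρ from LinearMap.ext fun _ => rfl, h1,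
      map_zero]
  have hli : LinearIndependent B v := by
    refine LinearIndependent.of_comp ρ (Module.IsLocalRing.linearIndependent_of_flat (ρ ∘ v) ?_)
    have : (TensorProduct.mk B k F 1 ∘ ρ ∘ v) = ρ.baseChange k ∘ b := funext fun j => by
      rw [Function.comp_apply, Function.comp_apply, Function.comp_apply, ← hv j]
      simp
    rw [this]
    exact b.linearIndependent.map' _ (LinearMap.ker_eq_bot.2 hinj)
  exact Module.Free.of_basis (Module.Basis.mk hli hspan.ge)

include hg hc in
/-- The criterion. -/
theorem flat_charts_iff (hgood : ∀ (K : Type u) [Field K] [Algebra A K], GoodAt n e M₀ K)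
    (B : Type u) [CommRing B] [Algebra A B] :
    (∀ i, Module.Flat B (B ⊗[A] M i)) ↔
      ∀ m, M₀ ≤ m → Module.Flat B (B ⊗[A] LinearMap.range (e m)) := by
  refine ⟨fun h m hm => ?_, fun h => flat_chart hg hc B h⟩
  refine Module.flat_of_localized_maximal _ fun P _ => ?_
  let Bp := Localization.AtPrime P
  have hflat : ∀ i, Module.Flat Bp (Bp ⊗[A] M i) := fun i => by
    haveI := h i
    exact Module.Flat.of_linearEquiv (AlgebraTensorModule.cancelBaseChange A B Bp Bp (M i)).symm
  haveI := free_part_of_flat_chart hg hc hgood Bp hflat hm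
  haveI : Module.Flat Bp (Bp ⊗[B] (B ⊗[A] LinearMap.range (e m))) :=
    Module.Flat.of_linearEquiv (AlgebraTensorModule.cancelBaseChange A B Bp Bp (LinearMap.range (e m)))
  haveI : Module.Flat B Bp := IsLocalization.flat Bp P.primeCompl
  haveI : Module.Flat B (Bp ⊗[B] (B ⊗[A] LinearMap.range (e m))) := Module.Flat.trans B Bp _
  exact Module.Flat.of_linearEquiv
    (IsLocalizedModule.linearEquiv P.primeCompl (LocalizedModule.mkLinearMap P.primeCompl _)
      (TensorProduct.mk B Bp (B ⊗[A] LinearMap.range (e m)) 1))

end Flat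

section Fitting

variable {N : Type u} [AddCommGroup N] [Module A N] [Module.Finite A N]

/-- Over a field a Fitting ideal vanishes exactly below the dimension. -/
theorem fitt_map_eq_bot_iff (K : Type u) [Field K] [Algebra A K] (c : ℕ) :
    (Fitt.ideal A N c).map (algebraMap A K) = ⊥ ↔ c < Module.finrank K (K ⊗[A] N) := by
  rw [← H25.Fitting.ideal_baseChange K c]
  constructor
  · intro h
    by_contra hc
    rw [H25.Fitting.ideal_eq_top _ (Module.finBasis K (K ⊗[A] N)).span_eq (not_lt.1 hc)] at h
    exact top_ne_bot h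
  · exact H25.Fitting.ideal_eq_bot_of_free

theorem fitt_map_eq_top_iff (K : Type u) [Field K] [Algebra A K] (c : ℕ) :
    (Fitt.ideal A N c).map (algebraMap A K) = ⊤ ↔ Module.finrank K (K ⊗[A] N) ≤ c := by
  rcases Ideal.eq_bot_or_top ((Fitt.ideal A N c).map (algebraMap A K)) with h | h
  · rw [h]
    exact iff_of_false bot_ne_top (not_le.2 ((fitt_map_eq_bot_iff K c).1 h))
  · rw [h]
    refine iff_of_true rfl (not_lt.1 fun hc => ?_)
    exact top_ne_bot (h.symm.trans ((fitt_map_eq_bot_iff K c).2 hc))

variable (N) in
/-- The ideal of the locus where the rank is at least `h`. -/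
noncomputable def rankIdeal (h : ℕ) : Ideal A := if h = 0 then ⊥ else Fitt.ideal A N (h - 1)

theorem rankIdeal_le_ker_iff (K : Type u) [Field K] [Algebra A K] (h : ℕ) :
    rankIdeal N h ≤ RingHom.ker (algebraMap A K) ↔ h ≤ Module.finrank K (K ⊗[A] N) := by
  rw [rankIdeal]
  split_ifs with h0
  · simp [h0]
  · rw [← Ideal.map_eq_bot_iff_le_ker, fitt_map_eq_bot_iff]
    omega

/-- Where all fibres have dimension `h`, flatness means the vanishing of the rank ideal. -/
theorem flat_iff_rankIdeal (B : Type u) [CommRing B] [Algebra A B] {h : ℕ}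
    (hdim : ∀ (K : Type u) [Field K] [Algebra A K] [Algebra B K] [IsScalarTower A B K],
      Module.finrank K (K ⊗[A] N) = h) :
    Module.Flat B (B ⊗[A] N) ↔ (rankIdeal N h).map (algebraMap A B) = ⊥ := by
  classical
  -- the statements over the local rings
  have hloc : ∀ (P : Ideal B) [P.IsMaximal],
      Module.Free (Localization.AtPrime P) (Localization.AtPrime P ⊗[A] N) ↔
        (rankIdeal N h).map (algebraMap A (Localization.AtPrime P)) = ⊥ := by
    intro P _
    let L := Localization.AtPrime P
    let k := IsLocalRing.ResidueField L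
    have hk : Module.finrank k (k ⊗[L] (L ⊗[A] N)) = h := by
      rw [(AlgebraTensorModule.cancelBaseChange A L k k N).finrank_eq]
      exact hdim k
    haveI : Module.Finite L (L ⊗[A] N) := Module.Finite.base_change A L N
    constructor
    · intro hfree
      have hr : Module.finrank L (L ⊗[A] N) = h := by
        rw [← hk]
        exact (Module.finrank_baseChange (R := k) (S := L) (M' := L ⊗[A] N)).symm
      rw [rankIdeal]
      split_ifs with h0
      · exact Ideal.map_bot
      · rw [← H25.Fitting.ideal_baseChange L (h - 1)]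
        exact H25.Fitting.ideal_eq_bot_of_free (by omega)
    · intro hJ
      let b := Module.finBasisOfFinrankEq k (k ⊗[L] (L ⊗[A] N)) hk
      choose v hv using fun j => TensorProduct.mk_surjective L (L ⊗[A] N) k Ideal.Quotient.mk_surjective (b j)
      have hspan : Submodule.span L (Set.range v) = ⊤ := by
        apply IsLocalRing.span_eq_top_of_tmul_eq_basis v b hv
      refine Module.Free.of_basis (Module.Basis.mk ?_ hspan.ge)
      rw [Fintype.linearIndependent_iff]
      intro a ha j
      have h0 : h ≠ 0 := fun h0 => absurd j.2 (by omega)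
      rw [rankIdeal, if_neg h0, ← H25.Fitting.ideal_baseChange L (h - 1),
        H25.Fitting.ideal_eq v hspan, Nat.sub_sub_self (Nat.one_le_iff_ne_zero.2 h0)] at hJ
      have hmem := H25.Fitting.minor_mem (S := (H25.Fitting.rel (R := L) v : Set (Fin h → L)))
        (fun _ : Fin 1 => a) (fun _ => j) (fun _ => H25.Fitting.mem_rel.2 ha)
      rw [hJ, Ideal.mem_bot] at hmem
      simpa [H25.Fitting.minor] using hmem
  constructor
  · intro hf
    refine (Submodule.eq_bot_iff _).2 fun y hy => eq_zero_of_localization y fun P hP => ?_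
    haveI : Module.Flat (Localization.AtPrime P) (Localization.AtPrime P ⊗[A] N) :=
      Module.Flat.of_linearEquiv (AlgebraTensorModule.cancelBaseChange A B (Localization.AtPrime P)
        (Localization.AtPrime P) N).symm
    haveI : Module.Finite (Localization.AtPrime P) (Localization.AtPrime P ⊗[A] N) :=
      Module.Finite.base_change A _ N
    have h1 := (hloc P).1 Module.free_of_flat_of_isLocalRing
    have h2 : algebraMap B (Localization.AtPrime P) y ∈
        ((rankIdeal N h).map (algebraMap A B)).map (algebraMap B (Localization.AtPrime P)) :=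
      Ideal.mem_map_of_mem _ hy
    rwa [Ideal.map_map, ← IsScalarTower.algebraMap_eq, h1, Ideal.mem_bot] at h2
  · intro hJ
    refine Module.flat_of_localized_maximal _ fun P _ => ?_
    let Bp := Localization.AtPrime P
    haveI := (hloc P).2 (by
      rw [IsScalarTower.algebraMap_eq A B Bp, ← Ideal.map_map, hJ, Ideal.map_bot])
    haveI : Module.Flat Bp (Bp ⊗[B] (B ⊗[A] N)) :=
      Module.Flat.of_linearEquiv (AlgebraTensorModule.cancelBaseChange A B Bp Bp N)
    haveI : Module.Flat B Bp := IsLocalization.flat Bp P.primeCompl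
    haveI : Module.Flat B (Bp ⊗[B] (B ⊗[A] N)) := Module.Flat.trans B Bp _
    exact Module.Flat.of_linearEquiv
      (IsLocalizedModule.linearEquiv P.primeCompl (LocalizedModule.mkLinearMap P.primeCompl _)
        (TensorProduct.mk B Bp (B ⊗[A] N) 1))

end Fitting

end Groth.Agent.Lib.FlatStrat53
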