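import Groth.Agent.Lib.UnifReg.Bound
import Groth.Agent.Lib.ShStab.HilbPoly
import Groth.Agent.Lib.Cyc.FP.Stalk
import Groth.Prelude.Def_Twist2

/-!
# The Hilbert polynomial on `P^n` over the spectrum of a field
-/

set_option autoImplicit false
set_option linter.style.haveILetI false
set_option linter.style.show false

universe u

open CategoryTheory CategoryTheory.Limits AlgebraicGeometry TopologicalSpace

namespace Groth.Agent.Lib.FlatStrat53

open Groth.Agent.Lib TensorMod.Basic ProjCoh.Coherent ProjSpace.BaseChange UnifReg.Step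

variable {k : Type u} [Field k]

/-- An isomorphism over the field does not change the dimensions of cohomology. -/
theorem finrank_HH_iso {X Y : Scheme.{u}} [X.Over (Spec (CommRingCat.of k))]
    [Y.Over (Spec (CommRingCat.of k))] [CompactSpace Y] [QuasiSeparatedSpace Y] (e : X ≅ Y)
    (he : e.hom ≫ (Y ↘ Spec (CommRingCat.of k)) = X ↘ Spec (CommRingCat.of k)) (M : Y.Modules)
    [M.IsQuasicoherent] (i : ℕ) :
    Module.finrank k (Coh.HH X ((Scheme.Modules.pullback e.hom).obj M) i) =
      Module.finrank k (Coh.HH Y M i) := by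
  have h1 : Spec.map (CommRingCat.ofHom (algebraMap k k)) = 𝟙 (Spec (CommRingCat.of k)) := by
    rw [show algebraMap k k = RingHom.id k from rfl]
    exact Spec.map_id _
  haveI : IsIso (Spec.map (CommRingCat.ofHom (algebraMap k k))) := by rw [h1]; infer_instance
  exact Curves.BaseChange.finrank_HH
    (IsPullback.of_horiz_isIso ⟨by rw [h1, Category.comp_id, he]⟩) M i

/-- The Euler characteristic is invariant under isomorphisms over the field. -/
theorem eulerCharLE_iso {X Y : Scheme.{u}} [X.Over (Spec (CommRingCat.of k))]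
    [Y.Over (Spec (CommRingCat.of k))] [CompactSpace Y] [QuasiSeparatedSpace Y] (e : X ≅ Y)
    (he : e.hom ≫ (Y ↘ Spec (CommRingCat.of k)) = X ↘ Spec (CommRingCat.of k)) (M : Y.Modules)
    [M.IsQuasicoherent] (d : ℕ) :
    FGA.eulerCharLE k X ((Scheme.Modules.pullback e.hom).obj M) d = FGA.eulerCharLE k Y M d := by
  unfold FGA.eulerCharLE
  exact Finset.sum_congr rfl fun i _ => by rw [finrank_HH_iso e he M i]

variable (n : ℕ) (k)

/-- Twists on `P^n_k` are pulled back from `P^n_ℤ`. -/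
theorem nonempty_pb_twistProjSpace (d : ℤ) :
    Nonempty ((Scheme.Modules.pullback (projMap n (ulz k))).obj
      (Twist.twistProjSpace n (ULift.{u} ℤ) d) ≅ tw n k d) := by
  rcases Int.eq_nat_or_neg d with ⟨m, rfl | rfl⟩
  · exact ProperFin.ProjFacts.nonempty_pullback_O n (ULift.{u} ℤ) k (ulz k) m
  · obtain ⟨e⟩ := ProperFin.ProjFacts.nonempty_pullback_O n (ULift.{u} ℤ) k (ulz k) m
    let φ := projMap n (ulz k)
    let F := Scheme.Modules.pullback φ
    let c : CohB1.tensorMod (F.obj (tw n (ULift.{u} ℤ) (-(m : ℤ)))) (tw n k (m : ℤ)) ≅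
        Coh.structureModule (CohB1.ProjSpace n k) :=
      tensorIso (Iso.refl _) e.symm ≪≫ (TensorMod.Pullback.pullbackTensorIso φ _ _).symm ≪≫
        F.mapIso (twCancel (-(m : ℤ)) (m : ℤ) (by ring)) ≪≫ PicLoc.pullbackStructureIso φ
    exact ⟨(rightUnit _).symm ≪≫
      tensorIso (Iso.refl _) (twCancel (n := n) (R := k) (m : ℤ) (-(m : ℤ)) (by ring)).symm ≪≫
      (TensorMod.Basic.assoc _ _ _).symm ≪≫ tensorIso c (Iso.refl _) ≪≫ leftUnit _⟩

/-- The Euler characteristics of the twists of a coherent sheaf on `P^n` over a field form a polynomial,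
equal in large degree to the dimension of the global sections. -/
theorem exists_fibrePoly (M : (CohB1.ProjSpaceOver n (Spec (CommRingCat.of k))).Modules) (hM : Coh.IsCoh M) :
    letI : (CohB1.ProjSpaceOver n (Spec (CommRingCat.of k))).Over (Spec (CommRingCat.of k)) :=
      ⟨CohB1.ProjSpaceOver.toBase n (Spec (CommRingCat.of k))⟩
    ∃ (P : Polynomial ℚ) (m₀ : ℕ),
      (∀ m : ℤ, (FGA.eulerCharLE k (CohB1.ProjSpaceOver n (Spec (CommRingCat.of k)))
        (CohB1.tensorMod M (Twist.twistOver n (Spec (CommRingCat.of k)) m)) n : ℚ) = P.eval (m : ℚ)) ∧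
      ∀ m : ℕ, m₀ ≤ m → P.eval (m : ℚ) =
        (Module.finrank k (Coh.HH (CohB1.ProjSpaceOver n (Spec (CommRingCat.of k)))
          (CohB1.tensorMod M (Twist.twistOver n (Spec (CommRingCat.of k)) (m : ℤ))) 0) : ℚ) := by
  letI : (CohB1.ProjSpaceOver n (Spec (CommRingCat.of k))).Over (Spec (CommRingCat.of k)) :=
    ⟨CohB1.ProjSpaceOver.toBase n (Spec (CommRingCat.of k))⟩
  haveI := UnifReg.Step.isNoetherian_proj n k
  let o := overSpecIso n k
  let M' := (Scheme.Modules.pullback o.inv).obj M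
  have hM' : Coh.IsCoh M' := Cyc.FP.Stalk.isCoh_pullback o.inv hM
  obtain ⟨P, hP⟩ := ShStab.HilbPoly.exists_chiPoly hM'
  obtain ⟨d₀, hd₀⟩ := exists_forall_subsingleton M' hM'
  have ho : o.hom ≫ (CohB1.ProjSpace n k ↘ Spec (CommRingCat.of k)) =
      CohB1.ProjSpaceOver n (Spec (CommRingCat.of k)) ↘ Spec (CommRingCat.of k) :=
    overSpecIso_hom_toSpec n k
  have key : ∀ m : ℤ, Nonempty ((Scheme.Modules.pullback o.hom).obj (tM M' m) ≅
      CohB1.tensorMod M (Twist.twistOver n (Spec (CommRingCat.of k)) m)) := by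
    intro m
    obtain ⟨e⟩ := nonempty_pb_twistProjSpace k n m
    exact ⟨TensorMod.Pullback.pullbackTensorIso o.hom _ _ ≪≫ tensorIso
      ((Scheme.Modules.pullbackComp o.hom o.inv).app M ≪≫
        (Scheme.Modules.pullbackCongr o.hom_inv_id).app M ≪≫ (Scheme.Modules.pullbackId _).app M)
      ((Scheme.Modules.pullback o.hom).mapIso e.symm ≪≫
        (Scheme.Modules.pullbackComp o.hom (projMap n (ulz k))).app _ ≪≫
        (Scheme.Modules.pullbackCongr (overSpecIso_hom_projMap n k)).app _)⟩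
  have hq : ∀ m, Coh.IsCoh (tM M' m) := fun m => isCoh_tensorMod hM' (isCoh_tw m)
  refine ⟨P, d₀, fun m => ?_, fun m hm => ?_⟩
  · obtain ⟨e⟩ := key m
    haveI := (hq m).1
    rw [← Snapper.Chi.eulerCharLE_of_iso e n, eulerCharLE_iso o ho]
    exact hP m
  · obtain ⟨e⟩ := key m
    haveI := (hq m).1
    rw [← (Curves.LES.isoK k e 0).finrank_eq, finrank_HH_iso o ho]
    have hz : ∀ q : ℕ, Module.finrank k (Coh.HH (CohB1.ProjSpace n k) (tM M' (m : ℤ)) (q + 1)) = 0 := fun q =>
      @Module.finrank_zero_of_subsingleton k _ _ _ _ _ (hd₀ (m : ℤ) (by omega) q)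
    have h2 : FGA.eulerCharLE k (CohB1.ProjSpace n k) (tM M' (m : ℤ)) n =
        (Module.finrank k (Coh.HH (CohB1.ProjSpace n k) (tM M' (m : ℤ)) 0) : ℤ) := by
      unfold FGA.eulerCharLE
      rw [Finset.sum_range_succ', Finset.sum_eq_zero fun q _ => by rw [hz q, Nat.cast_zero, mul_zero]]
      simp
    have h3 := hP (m : ℤ)
    rw [show chi M' (m : ℤ) = FGA.eulerCharLE k (CohB1.ProjSpace n k) (tM M' (m : ℤ)) n from rfl, h2] at h3
    exact_mod_cast h3.symm

end Groth.Agent.Lib.FlatStrat53
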