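import Groth.Agent.Lib.FlatStrat53.Flat
import Groth.Agent.Lib.FlatStrat53.Compare
import Groth.Agent.Lib.FlatStrat53.Atlas
import Groth.Agent.Lib.CechRes.PullSec

/-!
# Models of the pullback of a sheaf along a morphism of bases
-/

set_option autoImplicit false
set_option linter.style.haveILetI false
set_option linter.style.show false

universe u

open CategoryTheory CategoryTheory.Limits AlgebraicGeometry TensorProduct
open Groth.Agent.Lib.QCoh.Localizing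

namespace Groth.Agent.Lib.FlatStrat53

attribute [local instance] Algebra.TensorProduct.rightAlgebra

variable {n : ℕ} {S T : Scheme.{u}} (F : (CohB1.ProjSpaceOver n S).Modules) (φ : T ⟶ S) {U : S.Opens}
  (eU : (⊤ : T.Opens) ≤ φ ⁻¹ᵁ U)

/-- The pulled back sheaf. -/
noncomputable abbrev Fp : (CohB1.ProjSpaceOver n T).Modules :=
  (Scheme.Modules.pullback (FGA.projMap n φ)).obj F

theorem projMap_toP₀ : FGA.projMap n φ ≫ toP₀ n S = toP₀ n T :=
  (pullback.lift_fst _ _ _).trans (Category.comp_id _)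

theorem projMap_toBase :
    FGA.projMap n φ ≫ CohB1.ProjSpaceOver.toBase n S = CohB1.ProjSpaceOver.toBase n T ≫ φ :=
  pullback.lift_snd _ _ _

include eU in
theorem V_le_preimage (i : Fin (n + 1)) : V n (⊤ : T.Opens) i ≤ FGA.projMap n φ ⁻¹ᵁ V n U i := fun x hx => by
  refine ⟨?_, ?_⟩
  · show (FGA.projMap n φ ≫ toP₀ n S) x ∈ D₀ n i
    rw [projMap_toP₀]
    exact hx.1
  · show (FGA.projMap n φ ≫ CohB1.ProjSpaceOver.toBase n S) x ∈ U
    rw [projMap_toBase]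
    exact eU trivial

theorem preimage_V (i : Fin (n + 1)) :
    FGA.projMap n φ ⁻¹ᵁ V n U i ⊓ CohB1.ProjSpaceOver.toBase n T ⁻¹ᵁ φ ⁻¹ᵁ U = V n (φ ⁻¹ᵁ U) i := by
  unfold V
  rw [Scheme.Hom.preimage_inf, ← Scheme.Hom.comp_preimage, ← Scheme.Hom.comp_preimage, projMap_toP₀,
    projMap_toBase, Scheme.Hom.comp_preimage, inf_assoc, inf_idem]

/-- Pullback of chart sections. -/
noncomputable def bc (i : Fin (n + 1)) (v : Mo F U i) : Mo (Fp F φ) (⊤ : T.Opens) i :=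
  CechRes.PullSec.mu (FGA.projMap n φ) F (V_le_preimage φ eU i) v

theorem bc_add (i : Fin (n + 1)) (v w : Mo F U i) : bc F φ eU i (v + w) = bc F φ eU i v + bc F φ eU i w :=
  map_add _ v w

theorem bc_smul (i : Fin (n + 1)) (r : Rg n U i) (v : Mo F U i) :
    bc F φ eU i (r • v) =
      (FGA.projMap n φ).appLE (V n U i) (V n (⊤ : T.Opens) i) (V_le_preimage φ eU i) r • bc F φ eU i v :=
  (CechRes.PullSec.mu (FGA.projMap n φ) F (V_le_preimage φ eU i)).map_smulₛₗ r v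

theorem appLE_t (i j : Fin (n + 1)) :
    (FGA.projMap n φ).appLE (V n U i) (V n (⊤ : T.Opens) i) (V_le_preimage φ eU i) (t n U i j) =
      t n (⊤ : T.Opens) i j := by
  show ((toP₀ n S).appLE (D₀ n i) (V n U i) _ ≫ (FGA.projMap n φ).appLE _ _ _) (c₀ n i j) = _
  rw [Scheme.Hom.appLE_comp_appLE]
  simp only [projMap_toP₀]
  rfl

theorem appLE_baseHom (i : Fin (n + 1)) (a : Γ(S, U)) :
    (FGA.projMap n φ).appLE (V n U i) (V n (⊤ : T.Opens) i) (V_le_preimage φ eU i) (baseHom n U i a) =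
      baseHom n (⊤ : T.Opens) i (φ.appLE U ⊤ eU a) := by
  show ((CohB1.ProjSpaceOver.toBase n S).appLE U (V n U i) _ ≫ (FGA.projMap n φ).appLE _ _ _) a =
    (φ.appLE U ⊤ eU ≫ (CohB1.ProjSpaceOver.toBase n T).appLE ⊤ (V n ⊤ i) _) a
  rw [Scheme.Hom.appLE_comp_appLE, Scheme.Hom.appLE_comp_appLE]
  simp only [projMap_toBase]

theorem bc_smul_t (i j : Fin (n + 1)) (v : Mo F U i) :
    bc F φ eU i (t n U i j • v) = t n (⊤ : T.Opens) i j • bc F φ eU i v := by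
  rw [bc_smul, appLE_t φ eU]

theorem bc_smul_base (i : Fin (n + 1)) (a : Γ(S, U)) (v : Mo F U i) :
    bc F φ eU i (a • v) = φ.appLE U ⊤ eU a • bc F φ eU i v := by
  show bc F φ eU i (baseHom n U i a • v) = baseHom n (⊤ : T.Opens) i (φ.appLE U ⊤ eU a) • bc F φ eU i v
  rw [bc_smul, appLE_baseHom]

/-- Pullback of compatible tuples. -/
theorem compat_bc {m : ℕ} {v : ∀ i, Mo F U i} (hv : v ∈ compat F U m) :
    (fun i => bc F φ eU i (v i)) ∈ compat (Fp F φ) (⊤ : T.Opens) m := by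
  rw [mem_compat_iff] at hv ⊢
  intro i j
  have e : V n (⊤ : T.Opens) i ⊓ V n (⊤ : T.Opens) j ≤ FGA.projMap n φ ⁻¹ᵁ (V n U i ⊓ V n U j) := by
    rw [Scheme.Hom.preimage_inf]
    exact inf_le_inf (V_le_preimage φ eU i) (V_le_preimage φ eU j)
  have h := congrArg (CechRes.PullSec.mu (FGA.projMap n φ) F e) (hv i j)
  have hl : ∀ (k : Fin (n + 1)) (h₁ : V n (⊤ : T.Opens) i ⊓ V n (⊤ : T.Opens) j ≤ V n (⊤ : T.Opens) k)
      (h₂ : V n U i ⊓ V n U j ≤ V n U k) (x : Mo F U k),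
      CechRes.PullSec.mu (FGA.projMap n φ) F e (res F h₂ x) = res (Fp F φ) h₁ (bc F φ eU k x) :=
    fun k h₁ h₂ x => CechRes.PullSec.mu_res (FGA.projMap n φ) F h₂ h₁ (V_le_preimage φ eU k) e x
  rw [hl j inf_le_right inf_le_right] at h
  rw [h, LinearMap.map_smulₛₗ, hl i inf_le_left inf_le_left, map_pow]
  congr 1
  congr 1
  show ((CohB1.ProjSpaceOver n S).presheaf.map (homOfLE _).op ≫ (FGA.projMap n φ).appLE _ _ e) (t n U j i) = _
  rw [Scheme.Hom.map_appLE, ← Scheme.Hom.appLE_map (FGA.projMap n φ) (V_le_preimage φ eU j)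
    (homOfLE (inf_le_right : V n (⊤ : T.Opens) i ⊓ V n (⊤ : T.Opens) j ≤ V n (⊤ : T.Opens) j)).op]
  exact congrArg _ (appLE_t φ eU j i)

/-- Pullback of chart sections, linearly. -/
noncomputable def bcLin (i : Fin (n + 1)) :
    letI := Module.compHom (Mo (Fp F φ) (⊤ : T.Opens) i) (φ.appLE U ⊤ eU).hom
    Mo F U i →ₗ[Γ(S, U)] Mo (Fp F φ) (⊤ : T.Opens) i :=
  letI := Module.compHom (Mo (Fp F φ) (⊤ : T.Opens) i) (φ.appLE U ⊤ eU).hom
  { toFun := bc F φ eU i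
    map_add' := bc_add F φ eU i
    map_smul' := bc_smul_base F φ eU i }

theorem isBaseChange_bcLin [F.IsQuasicoherent] [IsAffine T] (hU : IsAffineOpen U) (i : Fin (n + 1)) :
    letI := (φ.appLE U ⊤ eU).hom.toAlgebra
    letI := Module.compHom (Mo (Fp F φ) (⊤ : T.Opens) i) (φ.appLE U ⊤ eU).hom
    haveI : IsScalarTower Γ(S, U) Γ(T, ⊤) (Mo (Fp F φ) (⊤ : T.Opens) i) :=
      IsScalarTower.of_algebraMap_smul fun _ _ => rfl
    IsBaseChange Γ(T, ⊤) (bcLin F φ eU i) := by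
  letI := (φ.appLE U ⊤ eU).hom.toAlgebra
  letI := Module.compHom (Mo (Fp F φ) (⊤ : T.Opens) i) (φ.appLE U ⊤ eU).hom
  haveI : IsScalarTower Γ(S, U) Γ(T, ⊤) (Mo (Fp F φ) (⊤ : T.Opens) i) :=
    IsScalarTower.of_algebraMap_smul fun _ _ => rfl
  have htop : φ ⁻¹ᵁ U = ⊤ := top_le_iff.1 eU
  have hT : IsAffineOpen (⊤ : T.Opens) := isAffineOpen_top _
  let p := CohB1.ProjSpaceOver.toBase n S
  let q := FGA.projMap n φ
  let O := q ⁻¹ᵁ V n U i ⊓ CohB1.ProjSpaceOver.toBase n T ⁻¹ᵁ (⊤ : T.Opens)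
  have hO : V n (⊤ : T.Opens) i = O := by
    have := preimage_V (U := U) φ i
    rw [htop] at this
    exact this.symm
  obtain ⟨hOaff, e, he⟩ := SchDom.exists_chartEquiv (isPullback_projMap (n := n) φ) hU (isAffineOpen_V n hU i)
    hT (V_le_toBase n U i) eU
  let O' := V n (⊤ : T.Opens) i
  have hO'aff : IsAffineOpen O' := isAffineOpen_V n hT i
  letI : Algebra (Rg n U i) (Rg n (⊤ : T.Opens) i) :=
    (q.appLE (V n U i) O' (V_le_preimage φ eU i)).hom.toAlgebra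
  letI : Algebra Γ(S, U) (Rg n (⊤ : T.Opens) i) :=
    ((algebraMap (Rg n U i) (Rg n (⊤ : T.Opens) i)).comp (algebraMap Γ(S, U) (Rg n U i))).toAlgebra
  haveI : IsScalarTower Γ(S, U) (Rg n U i) (Rg n (⊤ : T.Opens) i) := IsScalarTower.of_algebraMap_eq fun _ => rfl
  haveI : IsScalarTower Γ(S, U) Γ(T, ⊤) (Rg n (⊤ : T.Opens) i) := IsScalarTower.of_algebraMap_eq fun r =>
    appLE_baseHom φ eU i r
  let ι : Γ(CohB1.ProjSpaceOver n T, O) ≃+* Rg n (⊤ : T.Opens) i :=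
    ((CohB1.ProjSpaceOver n T).presheaf.mapIso (eqToIso hO).op).commRingCatIsoToRingEquiv
  have hι : ∀ (Y : Scheme.{u}) (g : CohB1.ProjSpaceOver n T ⟶ Y) (W : Y.Opens) (h : O ≤ g ⁻¹ᵁ W) (a : Γ(Y, W)),
      ι (g.appLE W O h a) = g.appLE W O' (hO.le.trans h) a := fun Y g W h a => by
    show (g.appLE W O h ≫ (CohB1.ProjSpaceOver n T).presheaf.map (eqToHom hO).op) a = _
    rw [Scheme.Hom.appLE_map]
  let eA : (Rg n U i ⊗[Γ(S, U)] Γ(T, ⊤)) ≃ₐ[Rg n U i] Rg n (⊤ : T.Opens) i :=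
    AlgEquiv.ofRingEquiv (f := e.trans ι) fun a => by
      rw [Algebra.TensorProduct.algebraMap_apply, RingEquiv.trans_apply, he, map_one, mul_one, hι]
      rfl
  haveI : Algebra.IsPushout Γ(S, U) (Rg n U i) Γ(T, ⊤) (Rg n (⊤ : T.Opens) i) :=
    Algebra.IsPushout.of_equiv eA (RingHom.ext fun b => by
      show (e.trans ι) ((1 : Rg n U i) ⊗ₜ b) = _
      rw [RingEquiv.trans_apply, he, map_one, one_mul, hι]
      rfl)
  haveI : Algebra.IsPushout Γ(S, U) Γ(T, ⊤) (Rg n U i) (Rg n (⊤ : T.Opens) i) :=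
    Algebra.IsPushout.symm inferInstance
  letI : Module (Rg n U i) (Mo (Fp F φ) (⊤ : T.Opens) i) :=
    Module.compHom _ (q.appLE (V n U i) O' (V_le_preimage φ eU i)).hom
  haveI : IsScalarTower (Rg n U i) (Rg n (⊤ : T.Opens) i) (Mo (Fp F φ) (⊤ : T.Opens) i) :=
    IsScalarTower.of_algebraMap_smul fun _ _ => rfl
  have hb := CechRes.PullSec.isBaseChange_mu q F (isAffineOpen_V n hU i) hO'aff (V_le_preimage φ eU i)
  let E : Γ(T, ⊤) ⊗[Γ(S, U)] Mo F U i ≃ₗ[Γ(T, ⊤)] Mo (Fp F φ) (⊤ : T.Opens) i :=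
    (Algebra.IsPushout.cancelBaseChange Γ(S, U) Γ(T, ⊤) (Rg n U i) (Rg n (⊤ : T.Opens) i) (Mo F U i)).symm ≪≫ₗ
      hb.equiv.restrictScalars Γ(T, ⊤)
  refine IsBaseChange.of_equiv E fun v => ?_
  simp only [E, LinearEquiv.trans_apply, LinearEquiv.restrictScalars_apply,
    Algebra.IsPushout.cancelBaseChange_symm_tmul]
  rw [IsBaseChange.equiv_tmul, map_one, one_smul]
  rfl

/-- A model of the pullback containing the pullback of a model has the same dimensions in large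
degree. -/
theorem exists_dimAt_pullback [F.IsQuasicoherent] [IsAffine T] (hU : IsAffineOpen U) (𝔐 : SheafModel F U)
    (𝔑 : SheafModel (Fp F φ) (⊤ : T.Opens)) {M₀ : ℕ}
    (hgood : ∀ (K : Type u) [Field K] [Algebra Γ(S, U) K], GoodAt n 𝔐.e M₀ K)
    {extra : Finset (ℕ × 𝔐.G)} {gens : Finset 𝔐.G}
    (hgens : Submodule.span (MvPolynomial (Fin (n + 1)) Γ(S, U)) (gens : Set 𝔐.G) = ⊤)
    (hs : ∀ g ∈ gens, ∀ d, (d, 𝔐.e d g) ∈ extra ∨ 𝔐.e d g = 0)
    (hcov : ∀ q ∈ extra, ∃ g', 𝔑.e q.1 g' = g' ∧ ∀ i, 𝔑.ψ i g' = bc F φ eU i (𝔐.ψ i q.2))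
    (K : Type u) [Field K] [Algebra Γ(S, U) K] [Algebra Γ(T, ⊤) K]
    (hK : ∀ a, algebraMap Γ(S, U) K a = algebraMap Γ(T, ⊤) K (φ.appLE U ⊤ eU a)) :
    ∃ m₁, ∀ m, m₁ ≤ m → dimAt 𝔐.e K m = dimAt 𝔑.e K m := by
  letI := (φ.appLE U ⊤ eU).hom.toAlgebra
  letI : ∀ i, Module Γ(S, U) (Mo (Fp F φ) (⊤ : T.Opens) i) := fun i => Module.compHom _ (φ.appLE U ⊤ eU).hom
  haveI : ∀ i, IsScalarTower Γ(S, U) Γ(T, ⊤) (Mo (Fp F φ) (⊤ : T.Opens) i) := fun i =>
    IsScalarTower.of_algebraMap_smul fun _ _ => rfl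
  haveI : IsScalarTower Γ(S, U) Γ(T, ⊤) K := IsScalarTower.of_algebraMap_eq hK
  have hcov' := cover_of_extra (t := coords n U) (t' := coords n (⊤ : T.Opens)) (fun i => bcLin F φ eU i)
    (fun i j v => bc_smul_t F φ eU i j v) 𝔐 𝔑
    (fun i c j v => by
      show t n (⊤ : T.Opens) i j • (baseHom n (⊤ : T.Opens) i (φ.appLE U ⊤ eU c) • v) =
        baseHom n (⊤ : T.Opens) i (φ.appLE U ⊤ eU c) • (t n (⊤ : T.Opens) i j • v)
      rw [smul_smul, smul_smul, mul_comm]) hgens hs hcov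
  exact exists_dimAt_eq (t := coords n U) (t' := coords n (⊤ : T.Opens)) (fun i => bcLin F φ eU i)
    (fun i => isBaseChange_bcLin F φ eU hU i) (fun i j v => bc_smul_t F φ eU i j v) 𝔐 𝔑 hgood hcov' K

end Groth.Agent.Lib.FlatStrat53
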