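import Groth.Agent.Lib.FlatStrat53.Sections
import Groth.Agent.Lib.ProperFin.TwistBC
import Groth.Agent.Lib.Modules.TensorGen
import Groth.Prelude.Def_Twist2

/-!
# Global sections of a twist as compatible tuples
-/

set_option autoImplicit false
set_option linter.style.haveILetI false
set_option linter.style.show false

universe u

open CategoryTheory CategoryTheory.Limits AlgebraicGeometry TopologicalSpace
open Groth.Agent.Lib.QCoh.Localizing

namespace Groth.Agent.Lib.FlatStrat53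

open TensorMod TensorMod.Gen TensorMod.Dual

variable (n : ℕ)

theorem X_pow_mem (i : Fin (n + 1)) (m : ℕ) :
    (MvPolynomial.X i : MvPolynomial (Fin (n + 1)) (ULift.{u} ℤ)) ^ m ∈
      CohB1.polyGrading n (ULift.{u} ℤ) m :=
  MvPolynomial.isHomogeneous_X_pow i m

theorem D₀_le_basicOpen_pow (i : Fin (n + 1)) (m : ℕ) :
    D₀.{u} n i ≤ Proj.basicOpen (CohB1.polyGrading n (ULift.{u} ℤ)) (MvPolynomial.X i ^ m) := fun x hx h =>
  hx (x.isPrime.mem_of_pow_mem m h)

/-- `x_i^m` as a section of `O(m)` over `D₊(x_i)`. -/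
noncomputable def gen₀ (i : Fin (n + 1)) (m : ℕ) :
    Γ(Twist.twistProjSpace n (ULift.{u} ℤ) (m : ℤ), D₀ n i) :=
  rs _ le_top (ProperFin.TwistBC.degSec (X_pow_mem n i m))

theorem isGen_gen₀ (i : Fin (n + 1)) (m : ℕ) :
    IsGen (Twist.twistProjSpace n (ULift.{u} ℤ) (m : ℤ)) (D₀ n i) (gen₀.{u} n i m) := by
  have h := (ProperFin.TwistBC.isGen_degSec (X_pow_mem.{u} n i m)).res (D₀_le_basicOpen_pow n i m)
  exact (congrArg (IsGen _ _) (rs_rs _ _ _ _)).mp h

theorem gen₀_cocycle (i j : Fin (n + 1)) (m : ℕ) :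
    rs _ (inf_le_left : D₀ n i ⊓ D₀ n j ≤ D₀ n i) (gen₀.{u} n i m) =
      resR (inf_le_right : D₀ n i ⊓ D₀ n j ≤ D₀ n j) (c₀ n j i) ^ m •
        rs _ (inf_le_right : D₀ n i ⊓ D₀ n j ≤ D₀ n j) (gen₀.{u} n j m) := by
  refine ((rs_rs _ _ _ _).trans ?_).trans
    (congrArg (resR (inf_le_right : D₀ n i ⊓ D₀ n j ≤ D₀.{u} n j) (c₀ n j i) ^ m • ·) (rs_rs _ _ _ _).symm)
  refine Subtype.ext (funext fun p => Subtype.ext ?_)
  have h1 : (1 : MvPolynomial (Fin (n + 1)) (ULift.{u} ℤ)) ∉ p.1.asHomogeneousIdeal := fun h =>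
    p.1.isPrime.ne_top ((Ideal.eq_top_iff_one _).mpr h)
  refine Eq.trans ?_ (ProperFin.TwistBC.val_smul_degSec (X_pow_mem.{u} n j m) _ p h1).symm
  haveI : p.1.asHomogeneousIdeal.toIdeal.IsPrime := p.1.isPrime
  show Localization.mk (MvPolynomial.X i ^ m) (⟨1, h1⟩ : p.1.asHomogeneousIdeal.toIdeal.primeCompl) = _
  have hpow : ∀ k : ℕ, (((resR (inf_le_right : D₀ n i ⊓ D₀ n j ≤ D₀ n j) (c₀.{u} n j i) ^ k :
      Γ(P₀.{u} n, D₀ n i ⊓ D₀ n j))).1 p).val =
        (((c₀.{u} n j i).1 ⟨p.1, p.2.2⟩).val) ^ k := by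
    intro k
    induction k with
    | zero =>
      rw [pow_zero, pow_zero]
      exact HomogeneousLocalization.val_one (x := p.1.asHomogeneousIdeal.toIdeal.primeCompl)
    | succ k ih =>
      rw [pow_succ, pow_succ]
      erw [Proj.mul_apply]
      rw [HomogeneousLocalization.val_mul]
      exact congrArg₂ (· * ·) ih rfl
  rw [hpow]
  erw [c₀_val n j i ⟨p.1, p.2.2⟩]
  rw [Localization.mk_pow, Localization.mk_mul, Localization.mk_eq_mk_iff, Localization.r_iff_exists]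
  refine ⟨1, ?_⟩
  simp only [Submonoid.coe_mul, SubmonoidClass.coe_pow, OneMemClass.coe_one, one_mul]
  ring

variable (S : Scheme.{u})

/-- The generator of `O(m)` on a standard chart. -/
noncomputable def tgen (U : S.Opens) (i : Fin (n + 1)) (m : ℕ) : Γ(Twist.twistOver n S (m : ℤ), V n U i) :=
  rs _ (V_le_toP₀ n U i) (TensorMod.Pullback.unitSec (toP₀ n S) _ (gen₀.{u} n i m))

theorem isGen_tgen (U : S.Opens) (i : Fin (n + 1)) (m : ℕ) :
    IsGen (Twist.twistOver n S (m : ℤ)) (V n U i) (tgen n S U i m) :=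
  (Ample.GenLocus.isGen_unitSec (toP₀ n S) (isGen_gen₀ n i m)).res (V_le_toP₀ n U i)

theorem tgen_cocycle (U : S.Opens) (i j : Fin (n + 1)) (m : ℕ) :
    rs _ (inf_le_left : V n U i ⊓ V n U j ≤ V n U i) (tgen n S U i m) =
      ratio n U i j ^ m • rs _ (inf_le_right : V n U i ⊓ V n U j ≤ V n U j) (tgen n S U j m) := by
  have hO : V n U i ⊓ V n U j ≤ toP₀ n S ⁻¹ᵁ (D₀ n i ⊓ D₀ n j) := by
    rw [Scheme.Hom.preimage_inf]
    exact inf_le_inf (V_le_toP₀ n U i) (V_le_toP₀ n U j)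
  let L := Twist.twistProjSpace n (ULift.{u} ℤ) (m : ℤ)
  have key : ∀ (k : Fin (n + 1)) (h : D₀ n i ⊓ D₀ n j ≤ D₀.{u} n k) (h' : V n U i ⊓ V n U j ≤ V n U k),
      rs _ h' (tgen n S U k m) = rs (Twist.twistOver n S (m : ℤ)) hO
        (TensorMod.Pullback.unitSec (toP₀ n S) L (rs L h (gen₀.{u} n k m))) := fun k h h' => by
    rw [← Ample.GenLocus.unitSec_rs (toP₀ n S) h, tgen]
    exact (rs_rs _ _ _ _).trans (rs_rs _ _ _ _).symm
  rw [key i inf_le_left inf_le_left, key j inf_le_right inf_le_right, gen₀_cocycle,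
    Ample.GenLocus.unitSec_smul]
  refine (rs_smul _ _ _ _).trans (congrArg (· • _) ?_)
  rw [map_pow]
  refine (map_pow (resR hO) _ m).trans (congrArg (· ^ m) ?_)
  show ((P₀.{u} n).presheaf.map (homOfLE _).op ≫ (toP₀ n S).app _ ≫
      (CohB1.ProjSpaceOver n S).presheaf.map (homOfLE hO).op) (c₀.{u} n j i) =
    ((toP₀ n S).appLE (D₀ n j) (V n U j) _ ≫ (CohB1.ProjSpaceOver n S).presheaf.map (homOfLE _).op) (c₀ n j i)
  rw [Scheme.Hom.appLE_map]
  rw [show (toP₀ n S).app (D₀ n i ⊓ D₀ n j) ≫ (CohB1.ProjSpaceOver n S).presheaf.map (homOfLE hO).op =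
    (toP₀ n S).appLE (D₀ n i ⊓ D₀ n j) (V n U i ⊓ V n U j) hO from rfl, Scheme.Hom.map_appLE]

variable {n S}

theorem iSup_V_top : (⨆ i, V n (⊤ : S.Opens) i) = ⊤ :=
  top_le_iff.1 fun x _ => Opens.mem_iSup.2 (exists_mem_V n x trivial)

variable (F : (CohB1.ProjSpaceOver n S).Modules) (m : ℕ)

/-- Tensoring with the generator on a chart. -/
noncomputable def chartEquiv (i : Fin (n + 1)) :
    Mo F (⊤ : S.Opens) i ≃ₗ[Rg n (⊤ : S.Opens) i]
      Γ(CohB1.tensorMod F (Twist.twistOver n S (m : ℤ)), V n (⊤ : S.Opens) i) :=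
  LinearEquiv.ofBijective (Modules.TensorGen.tg F (tgen n S ⊤ i m))
    (Modules.TensorGen.tg_bijective (isGen_tgen n S ⊤ i m))

/-- The components of a global section of a twist. -/
noncomputable def comps (s : Γ(CohB1.tensorMod F (Twist.twistOver n S (m : ℤ)), ⊤)) (i : Fin (n + 1)) :
    Mo F (⊤ : S.Opens) i :=
  (chartEquiv F m i).symm (rs _ le_top s)

theorem chartEquiv_comps (s : Γ(CohB1.tensorMod F (Twist.twistOver n S (m : ℤ)), ⊤)) (i : Fin (n + 1)) :
    Modules.TensorGen.tg F (tgen n S ⊤ i m) (comps F m s i) = rs _ le_top s :=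
  (chartEquiv F m i).apply_symm_apply _

theorem tg_left_inter (v : ∀ i, Mo F (⊤ : S.Opens) i) (i j : Fin (n + 1)) :
    rs _ (inf_le_left : V n (⊤ : S.Opens) i ⊓ V n (⊤ : S.Opens) j ≤ V n (⊤ : S.Opens) i)
        (Modules.TensorGen.tg F (tgen n S ⊤ i m) (v i)) =
      Modules.TensorGen.tg F (rs _ inf_le_right (tgen n S ⊤ j m))
        (ratio n (⊤ : S.Opens) i j ^ m • resL F ⊤ i j (v i)) := by
  rw [Modules.TensorGen.rs_tg, tgen_cocycle, map_smul]
  show SecTwist.tmul F _ _ (rs F inf_le_left (v i)) (ratio n (⊤ : S.Opens) i j ^ m •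
      rs _ inf_le_right (tgen n S ⊤ j m)) = ratio n (⊤ : S.Opens) i j ^ m • _
  exact Modules.TensorSec.tens_smul_right _ _ _

theorem comps_mem (s : Γ(CohB1.tensorMod F (Twist.twistOver n S (m : ℤ)), ⊤)) :
    comps F m s ∈ compat F (⊤ : S.Opens) m := by
  intro i j
  refine (Modules.TensorGen.tg_injective (M := F)
    ((isGen_tgen n S ⊤ j m).res (inf_le_right : V n (⊤ : S.Opens) i ⊓ V n (⊤ : S.Opens) j ≤ _))) ?_
  rw [← tg_left_inter F m (comps F m s) i j, chartEquiv_comps, rs_rs]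
  show Modules.TensorGen.tg F _ (rs F inf_le_right (comps F m s j)) = _
  rw [← Modules.TensorGen.rs_tg, chartEquiv_comps, rs_rs]

theorem exists_comps_eq {v : ∀ i, Mo F (⊤ : S.Opens) i} (hv : v ∈ compat F (⊤ : S.Opens) m) :
    ∃ s, comps F m s = v := by
  let G := CohB1.tensorMod F (Twist.twistOver n S (m : ℤ))
  obtain ⟨s, hs, -⟩ := TopCat.Sheaf.existsUnique_gluing'
    (⟨G.presheaf, G.isSheaf⟩ : TopCat.Sheaf AddCommGrpCat.{u} (CohB1.ProjSpaceOver n S))
    (fun i => V n (⊤ : S.Opens) i) ⊤ (fun i => homOfLE le_top) (le_of_eq iSup_V_top.symm)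
    (fun i => Modules.TensorGen.tg F (tgen n S ⊤ i m) (v i)) fun i j => by
      show rs G inf_le_left _ = rs G inf_le_right _
      rw [tg_left_inter F m v i j, ← show resRt F ⊤ i j (v j) = _ from hv i j, Modules.TensorGen.rs_tg]
  refine ⟨s, funext fun i => ?_⟩
  rw [comps, LinearEquiv.symm_apply_eq]
  exact hs i

theorem comps_injective : Function.Injective (comps F m) := fun s s' h => by
  refine TensorMod.HomGlue.sections_ext_cover (fun i => V n (⊤ : S.Opens) i) _ iSup_V_top.ge fun i => ?_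
  have hi : rs (CohB1.tensorMod F (Twist.twistOver n S (m : ℤ))) (le_top : V n (⊤ : S.Opens) i ≤ ⊤) s =
      rs _ le_top s' := by
    rw [← chartEquiv_comps, ← chartEquiv_comps, h]
  have := congrArg (rs _ (inf_le_right : ⊤ ⊓ V n (⊤ : S.Opens) i ≤ V n (⊤ : S.Opens) i)) hi
  rwa [rs_rs, rs_rs] at this

/-- Global sections of a twist are the compatible tuples. -/
noncomputable def secHom :
    Γ(CohB1.tensorMod F (Twist.twistOver n S (m : ℤ)), ⊤) →+ compat F (⊤ : S.Opens) m :=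
  AddMonoidHom.mk' (fun s => ⟨comps F m s, comps_mem F m s⟩) fun a b => Subtype.ext (funext fun i => by
    show (chartEquiv F m i).symm (rs _ le_top (a + b)) = _
    rw [TensorMod.HomGlue.rs_add, map_add]
    rfl)

/-- Global sections of a twist are the compatible tuples, as an isomorphism of groups. -/
noncomputable def secEquiv :
    Γ(CohB1.tensorMod F (Twist.twistOver n S (m : ℤ)), ⊤) ≃+ compat F (⊤ : S.Opens) m :=
  AddEquiv.ofBijective (secHom F m)
    ⟨fun a b h => comps_injective F m (congrArg Subtype.val h),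
      fun v => (exists_comps_eq F m v.2).imp fun _ h => Subtype.ext h⟩

theorem secEquiv_smul (a : Γ(S, ⊤)) (s : Γ(CohB1.tensorMod F (Twist.twistOver n S (m : ℤ)), ⊤)) :
    secEquiv F m ((CohB1.ProjSpaceOver.toBase n S).appTop a • s) = a • secEquiv F m s :=
  Subtype.ext (funext fun i => by
    show (chartEquiv F m i).symm (rs _ le_top ((CohB1.ProjSpaceOver.toBase n S).appTop a • s)) =
      baseHom n (⊤ : S.Opens) i a • (chartEquiv F m i).symm (rs _ le_top s)
    rw [rs_smul, map_smul]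
    rfl)

end Groth.Agent.Lib.FlatStrat53
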