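import Groth.Agent.Lib.FlatStrat53.HighDeg
import Groth.Agent.Lib.FlatStrat53.Twist
import Groth.Agent.Lib.FlatStrat53.Pullback
import Groth.Agent.Lib.Curves.GlobalSections
import Groth.Agent.Lib.Modules.SupportOps

/-!
# The dimensions of a model are the dimensions of the sections of the twists on the fibres
-/

set_option autoImplicit false
set_option linter.style.haveILetI false
set_option linter.style.show false

universe u

open CategoryTheory CategoryTheory.Limits AlgebraicGeometry TensorProduct TopologicalSpace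
open Groth.Agent.Lib.QCoh.Localizing

namespace Groth.Agent.Lib.FlatStrat53

variable {n : ℕ} {S : Scheme.{u}}

/-- The algebra structure of a residue field over the global functions of its spectrum. -/
@[reducible] noncomputable def algResidue (s : S) :
    Algebra Γ(Spec (S.residueField s), ⊤) (S.residueField s) :=
  (Scheme.ΓSpecIso (S.residueField s)).hom.hom.toAlgebra

theorem bijective_algResidue (s : S) :
    letI := algResidue s
    Function.Bijective (algebraMap Γ(Spec (S.residueField s), ⊤) (S.residueField s)) :=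
  (Scheme.ΓSpecIso (S.residueField s)).commRingCatIsoToRingEquiv.bijective

theorem top_le_preimage_fromSpecResidueField {U : S.Opens} {s : S} (hs : s ∈ U) :
    (⊤ : (Spec (S.residueField s)).Opens) ≤ S.fromSpecResidueField s ⁻¹ᵁ U := fun x _ => by
  show S.fromSpecResidueField s x ∈ U
  rwa [Scheme.fromSpecResidueField_apply]

theorem appLE_residue_eq_zero_iff {U : S.Opens} {s : S} (hs : s ∈ U) (a : Γ(S, U)) :
    (Scheme.ΓSpecIso (S.residueField s)).hom
        ((S.fromSpecResidueField s).appLE U ⊤ (top_le_preimage_fromSpecResidueField hs) a) = 0 ↔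
      s ∉ S.basicOpen a := by
  have hinj : Function.Injective (Scheme.ΓSpecIso (S.residueField s)).hom :=
    (Scheme.ΓSpecIso (S.residueField s)).commRingCatIsoToRingEquiv.injective
  rw [map_eq_zero_iff _ hinj, ← basicOpen_eq_bot_iff, Scheme.basicOpen_appLE, top_inf_eq]
  constructor
  · intro h hsa
    obtain ⟨x⟩ := (inferInstance : Nonempty (Spec (S.residueField s)))
    have : x ∈ S.fromSpecResidueField s ⁻¹ᵁ S.basicOpen a := by
      show S.fromSpecResidueField s x ∈ S.basicOpen a
      rwa [Scheme.fromSpecResidueField_apply]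
    rw [h] at this
    exact this
  · intro h
    refine le_bot_iff.1 fun x hx => h ?_
    have hx' : S.fromSpecResidueField s x ∈ S.basicOpen a := hx
    rwa [Scheme.fromSpecResidueField_apply] at hx'

variable (F : (CohB1.ProjSpaceOver n S).Modules) [F.IsQuasicoherent]
  [SheafOfModules.IsFiniteType (R := (CohB1.ProjSpaceOver n S).ringCatSheaf) F]

/-- In large degree the dimensions of a model at a point are those of the global sections of the
twists of the restriction to the fibre. -/
theorem exists_dimS_eq_h0 {U : S.Opens} (hU : IsAffineOpen U) (𝔐 : SheafModel F U)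
    (hc : ∀ m g, 𝔐.e m g = g → (fun i => 𝔐.ψ i g) ∈ compat F U m) {M₀ : ℕ}
    (hgood : ∀ (K : Type u) [Field K] [Algebra Γ(S, U) K], GoodAt n 𝔐.e M₀ K) (s : S) (hs : s ∈ U) :
    letI : (CohB1.ProjSpaceOver n (Spec (S.residueField s))).Over
        (Spec (CommRingCat.of (S.residueField s))) :=
      ⟨CohB1.ProjSpaceOver.toBase n (Spec (S.residueField s))⟩
    ∃ m₁, ∀ m, m₁ ≤ m → dimS hU 𝔐 s hs m =
      Module.finrank (S.residueField s) (Coh.HH (CohB1.ProjSpaceOver n (Spec (S.residueField s)))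
        (CohB1.tensorMod (Fp F (S.fromSpecResidueField s))
          (Twist.twistOver n (Spec (S.residueField s)) (m : ℤ))) 0) := by
  classical
  letI : (CohB1.ProjSpaceOver n (Spec (S.residueField s))).Over
      (Spec (CommRingCat.of (S.residueField s))) :=
    ⟨CohB1.ProjSpaceOver.toBase n (Spec (S.residueField s))⟩
  let φ := S.fromSpecResidueField s
  let T : Scheme.{u} := Spec (S.residueField s)
  let K : Type u := S.residueField s
  have eU : (⊤ : T.Opens) ≤ φ ⁻¹ᵁ U := top_le_preimage_fromSpecResidueField hs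
  haveI : (Fp F φ).IsQuasicoherent := QCoh.Pullback.isQCoh_pullback _ F
  haveI : SheafOfModules.IsFiniteType (R := (CohB1.ProjSpaceOver n T).ringCatSheaf) (Fp F φ) :=
    Modules.SupportOps.isFT_pullback (FGA.projMap n φ) F
  obtain ⟨E, hE, gens, hgens, hgs⟩ := exists_extra (t := coords n U) 𝔐
  let r : ℕ × 𝔐.G → ℕ × ∀ i, Mo (Fp F φ) (⊤ : T.Opens) i := fun q =>
    (q.1, fun i => bc F φ eU i (𝔐.ψ i q.2))
  obtain ⟨𝔑, hN, hN'⟩ := exists_sheafModel (Fp F φ) (isAffineOpen_top T) (E.image r) fun q hq => by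
    obtain ⟨p, hp, rfl⟩ := Finset.mem_image.1 hq
    exact compat_bc F φ eU (hc _ _ (hE p hp))
  letI : Algebra Γ(T, ⊤) K := algResidue s
  have hbij : Function.Bijective (algebraMap Γ(T, ⊤) K) := bijective_algResidue s
  letI : Algebra Γ(S, U) K := ((algebraMap Γ(T, ⊤) K).comp (φ.appLE U ⊤ eU).hom).toAlgebra
  obtain ⟨m₁, h₁⟩ := exists_dimAt_pullback F φ eU hU 𝔐 𝔑 hgood hgens hgs
    (fun q hq => hN (r q) (Finset.mem_image_of_mem r hq)) K fun a => rfl
  haveI : IsNoetherianRing Γ(T, ⊤) :=
    isNoetherianRing_of_ringEquiv K (Scheme.ΓSpecIso (S.residueField s)).commRingCatIsoToRingEquiv.symm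
  obtain ⟨m₂, h₂⟩ := exists_model_eq (t := coords n (⊤ : T.Opens)) (t_self n ⊤) (compat (Fp F φ) ⊤)
    (compat_mul (Fp F φ) ⊤) (compat_ker (Fp F φ) (isAffineOpen_top T)) 𝔑 hN'
  refine ⟨max m₁ m₂, fun m hm => ?_⟩
  rw [← dimAt_eq_dimS hU 𝔐 hs K (fun a => appLE_residue_eq_zero_iff hs a) m,
    h₁ m ((le_max_left _ _).trans hm)]
  -- sections are compatible tuples, which are the part of degree `m` of the model
  let G := CohB1.tensorMod (Fp F φ) (Twist.twistOver n T (m : ℤ))
  letI := Curves.GlobalSections.secModule K G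
  rw [(Curves.GlobalSections.h0Linear K G).finrank_eq]
  let toC : LinearMap.range (𝔑.e m) →ₗ[Γ(T, ⊤)] compat (Fp F φ) (⊤ : T.Opens) m :=
    LinearMap.codRestrict _ ((LinearMap.pi 𝔑.ψ).comp (LinearMap.range (𝔑.e m)).subtype) fun g => by
      obtain ⟨_, g₀, rfl⟩ := g
      exact hN' m _ (𝔑.grading.idem m g₀)
  have htoC : Function.Bijective toC := by
    refine ⟨(injective_iff_map_eq_zero _).2 fun g hg => ?_, fun v => ?_⟩
    · obtain ⟨_, g₀, rfl⟩ := g
      exact Subtype.ext (𝔑.inj m _ (𝔑.grading.idem m g₀) fun i => congrFun (congrArg Subtype.val hg) i)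
    · obtain ⟨g, hg, hgv⟩ := h₂ m ((le_max_right _ _).trans hm) v.1 v.2
      exact ⟨⟨g, g, hg⟩, Subtype.ext (funext hgv)⟩
  let eA : Γ(T, ⊤) ≃ₗ[Γ(T, ⊤)] K := LinearEquiv.ofBijective (Algebra.linearMap Γ(T, ⊤) K) hbij
  let eK : LinearMap.range (𝔑.e m) ≃ₗ[Γ(T, ⊤)] K ⊗[Γ(T, ⊤)] LinearMap.range (𝔑.e m) :=
    (TensorProduct.lid _ _).symm ≪≫ₗ TensorProduct.congr eA (LinearEquiv.refl _ _)
  let j : (G.val.obj (Opposite.op ⊤) : Type u) ≃+ K ⊗[Γ(T, ⊤)] LinearMap.range (𝔑.e m) :=
    (secEquiv (Fp F φ) m).trans ((LinearEquiv.ofBijective toC htoC).symm ≪≫ₗ eK).toAddEquiv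
  have hj : ∀ (a : K) (x : (G.val.obj (Opposite.op ⊤) : Type u)), j (a • x) = a • j x := fun a x => by
    let b : Γ(T, ⊤) := (Scheme.ΓSpecIso (S.residueField s)).inv a
    have hb : algebraMap Γ(T, ⊤) K b = a :=
      congr($((Scheme.ΓSpecIso (S.residueField s)).inv_hom_id) a)
    have h1 : secEquiv (Fp F φ) m (a • x) = b • secEquiv (Fp F φ) m x :=
      secEquiv_smul (Fp F φ) m b x
    show eK ((LinearEquiv.ofBijective toC htoC).symm (secEquiv (Fp F φ) m (a • x))) = a • _
    rw [h1, map_smul, map_smul, ← algebraMap_smul K b, hb]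
    rfl
  exact congrArg Cardinal.toNat
    (rank_eq_of_equiv_equiv (R := K) (R' := K) id j Function.bijective_id hj).symm

end Groth.Agent.Lib.FlatStrat53
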