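import Groth.Agent.H47.GenericFree
import Mathlib.RingTheory.Ideal.Quotient.Noetherian
import Mathlib.RingTheory.FiniteStability
import Mathlib.RingTheory.Polynomial.Basic
import Mathlib.RingTheory.LocalRing.Module
import Mathlib.RingTheory.Flat.Localization
import Mathlib.RingTheory.Flat.EquationalCriterion
import Mathlib.LinearAlgebra.TensorProduct.DirectLimit
import Mathlib.RingTheory.Spectrum.Prime.RingHom
import Mathlib.RingTheory.Localization.BaseChange
import Mathlib.Data.Finsupp.Weight
import Mathlib.RingTheory.Spectrum.Prime.FreeLocus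
import Mathlib.RingTheory.Spectrum.Prime.Topology

/-!
# Graded modules over a polynomial ring: uniform behaviour in high degree

A finite `A[x_0..x_n]`-module `G` with a family of projections `e m` (the homogeneous parts).  Over every
field `K` over `A`, from some degree on, no element of `K ⊗ G_m` is killed by all the variables, and the
dimensions `dim K ⊗ G_m` take finitely many values as functions of `m`.  Hence, for any `A`-algebra `B`,
`B ⊗ M_i` (`M_i` the dehomogenisations) are flat iff `B ⊗ G_m` is flat for all large `m`.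
-/

set_option autoImplicit false
set_option linter.style.haveILetI false
set_option linter.style.show false

universe u

open TensorProduct

namespace Groth.Agent.Lib.FlatStrat53

attribute [local instance] Algebra.TensorProduct.rightAlgebra

/-- The projections on the homogeneous parts of a graded module. -/
structure IsGrading {A : Type u} [CommRing A] (n : ℕ) {G : Type u} [AddCommGroup G] [Module A G]
    [Module (MvPolynomial (Fin (n + 1)) A) G] (e : ℕ → G →ₗ[A] G) : Prop where
  idem : ∀ m g, e m (e m g) = e m g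
  succ : ∀ m (j : Fin (n + 1)) g,
    e (m + 1) ((MvPolynomial.X j : MvPolynomial (Fin (n + 1)) A) • g) =
      (MvPolynomial.X j : MvPolynomial (Fin (n + 1)) A) • e m g
  zero : ∀ (j : Fin (n + 1)) g, e 0 ((MvPolynomial.X j : MvPolynomial (Fin (n + 1)) A) • g) = 0
  eventually : ∀ g, ∃ M, ∀ m, M ≤ m → e m g = 0

variable {A : Type u} [CommRing A] {n : ℕ} {G : Type u} [AddCommGroup G] [Module A G]
  [Module (MvPolynomial (Fin (n + 1)) A) G] [IsScalarTower A (MvPolynomial (Fin (n + 1)) A) G]

variable (A G) in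
/-- Multiplication by a variable. -/
noncomputable def xL (j : Fin (n + 1)) : G →ₗ[A] G :=
  Algebra.lsmul A A G (MvPolynomial.X j : MvPolynomial (Fin (n + 1)) A)

@[simp] theorem xL_apply (j : Fin (n + 1)) (g : G) :
    xL A G j g = (MvPolynomial.X j : MvPolynomial (Fin (n + 1)) A) • g := rfl

theorem xL_comm (i j : Fin (n + 1)) : xL A G i ∘ₗ xL A G j = xL A G j ∘ₗ xL A G i :=
  LinearMap.ext fun g => by simp [smul_smul, mul_comm]

theorem xL_pow_apply (i : Fin (n + 1)) (p : ℕ) (g : G) :
    (xL A G i ^ p) g = (MvPolynomial.X i : MvPolynomial (Fin (n + 1)) A) ^ p • g := by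
  induction p generalizing g with
  | zero => simp
  | succ p ih => rw [pow_succ, Module.End.mul_apply, ih, xL_apply, smul_smul, pow_succ]

variable {e : ℕ → G →ₗ[A] G}

theorem IsGrading.xL_comp (hg : IsGrading n e) (m : ℕ) (j : Fin (n + 1)) :
    e (m + 1) ∘ₗ xL A G j = xL A G j ∘ₗ e m :=
  LinearMap.ext fun g => hg.succ m j g

theorem IsGrading.comp_xL_pow (hg : IsGrading n e) (m p : ℕ) (j : Fin (n + 1)) :
    e (m + p) ∘ₗ (xL A G j ^ p) = (xL A G j ^ p) ∘ₗ e m := by
  induction p with
  | zero => simp [Module.End.one_eq_id]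
  | succ p ih =>
    rw [pow_succ', Module.End.mul_eq_comp, ← add_assoc, ← LinearMap.comp_assoc, hg.xL_comp, LinearMap.comp_assoc,
      ih, LinearMap.comp_assoc]

/-- Inclusion of the part of degree `m`. -/
abbrev incl (e : ℕ → G →ₗ[A] G) (m : ℕ) : LinearMap.range (e m) →ₗ[A] G := (LinearMap.range (e m)).subtype

/-- Projection on the part of degree `m`. -/
abbrev proj (e : ℕ → G →ₗ[A] G) (m : ℕ) : G →ₗ[A] LinearMap.range (e m) := (e m).rangeRestrict

theorem incl_comp_proj (e : ℕ → G →ₗ[A] G) (m : ℕ) : incl e m ∘ₗ proj e m = e m :=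
  LinearMap.ext fun _ => rfl

theorem IsGrading.proj_comp_incl (hg : IsGrading n e) (m : ℕ) : proj e m ∘ₗ incl e m = LinearMap.id := by
  refine LinearMap.ext fun ⟨_, g, rfl⟩ => Subtype.ext ?_
  exact hg.idem m g

theorem IsGrading.e_comp_incl (hg : IsGrading n e) (m : ℕ) : e m ∘ₗ incl e m = incl e m := by
  refine LinearMap.ext fun ⟨_, g, rfl⟩ => ?_
  exact hg.idem m g

variable (n) in
/-- No element of degree at least `M` of `K ⊗ G` is killed by all variables. -/
def GoodAt (e : ℕ → G →ₗ[A] G) (M : ℕ) (K : Type u) [CommRing K] [Algebra A K] : Prop :=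
  ∀ m, M ≤ m → ∀ z : K ⊗[A] G, (e m).baseChange K z = z →
    (∀ j : Fin (n + 1), (xL A G j).baseChange K z = 0) → z = 0

theorem GoodAt.mono {M M' : ℕ} (h : M ≤ M') {K : Type u} [CommRing K] [Algebra A K]
    (hK : GoodAt n e M K) : GoodAt n e M' K :=
  fun m hm => hK m (h.trans hm)

/-- The dimension of the fibre at `K` of the part of degree `m`. -/
noncomputable def dimAt (e : ℕ → G →ₗ[A] G) (K : Type u) [Field K] [Algebra A K] (m : ℕ) : ℕ :=
  Module.finrank K (K ⊗[A] LinearMap.range (e m))

omit [IsScalarTower A (MvPolynomial (Fin (n + 1)) A) G] in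
theorem baseChange_comp_apply {M₁ M₂ M₃ : Type u} [AddCommGroup M₁] [Module A M₁] [AddCommGroup M₂]
    [Module A M₂] [AddCommGroup M₃] [Module A M₃] (g : M₂ →ₗ[A] M₃) (f : M₁ →ₗ[A] M₂)
    (K : Type u) [CommRing K] [Algebra A K] (z : K ⊗[A] M₁) :
    (g ∘ₗ f).baseChange K z = g.baseChange K (f.baseChange K z) := by
  rw [LinearMap.baseChange_comp, LinearMap.comp_apply]

/-- If some power of each variable kills an element of large degree, it is zero. -/
theorem GoodAt.eq_zero_of_pow (hg : IsGrading n e) {M : ℕ} {K : Type u} [CommRing K] [Algebra A K]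
    (h : GoodAt n e M K) {m : ℕ} (hm : M ≤ m) (z : K ⊗[A] G) (hz : (e m).baseChange K z = z)
    (hp : ∀ i : Fin (n + 1), ∃ p : ℕ, (xL A G i ^ p).baseChange K z = 0) : z = 0 := by
  choose p hp using hp
  obtain ⟨N, hN⟩ : ∃ N, (∑ i, p i) ≤ N := ⟨_, le_rfl⟩
  induction N generalizing p z m with
  | zero =>
    have h0 : p 0 = 0 := Nat.le_zero.1 ((Finset.single_le_sum (f := p) (fun i _ => Nat.zero_le _)
      (Finset.mem_univ 0)).trans hN)
    have := hp 0
    rw [h0, pow_zero, Module.End.one_eq_id, LinearMap.baseChange_id] at this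
    exact this
  | succ N ih =>
    refine h m hm z hz fun j => ?_
    rcases Nat.eq_zero_or_pos (p j) with hj | hj
    · have := hp j
      rw [hj, pow_zero, Module.End.one_eq_id, LinearMap.baseChange_id] at this
      rw [show z = 0 from this, map_zero]
    · refine ih (m := m + 1) (Nat.le_succ_of_le hm) _ ?_ (Function.update p j (p j - 1)) ?_ ?_
      · rw [← baseChange_comp_apply, hg.xL_comp, baseChange_comp_apply, hz]
      · intro i
        by_cases hij : i = j
        · subst hij
          rw [Function.update_self, ← baseChange_comp_apply, ← Module.End.mul_eq_comp, ← pow_succ,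
            Nat.sub_add_cancel hj]
          exact hp i
        · rw [Function.update_of_ne hij, ← baseChange_comp_apply]
          have hc : (xL A G i ^ p i) ∘ₗ xL A G j = xL A G j ∘ₗ (xL A G i ^ p i) :=
            (Commute.pow_left (show Commute (xL A G i) (xL A G j) from xL_comm i j) (p i)).eq
          rw [hc, baseChange_comp_apply, hp i, map_zero]
      · rw [Finset.sum_update_of_mem (Finset.mem_univ j)]
        rw [← Finset.add_sum_erase _ _ (Finset.mem_univ j)] at hN
        rw [Finset.sdiff_singleton_eq_erase]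
        omega

section Finite

variable [Module.Finite (MvPolynomial (Fin (n + 1)) A) G]

/-- The homogeneous parts are finite `A`-modules. -/
theorem IsGrading.finite_range (hg : IsGrading n e) (m : ℕ) : Module.Finite A (LinearMap.range (e m)) := by
  classical
  obtain ⟨s, hs⟩ := (inferInstance : Module.Finite (MvPolynomial (Fin (n + 1)) A) G).fg_top
  let P := MvPolynomial (Fin (n + 1)) A
  let T : Set G := ⋃ d ∈ Set.Iic m, ⋃ g ∈ (s : Set G),
    (fun v : Fin (n + 1) →₀ ℕ => (MvPolynomial.monomial v (1 : A) : P) • e (m - d) g) ''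
      {v | v.degree = d}
  have hfin : ∀ d : ℕ, {v : Fin (n + 1) →₀ ℕ | v.degree = d}.Finite := fun d => by
    refine ((Finsupp.finite_of_degree_le d).subset fun v hv => ?_)
    exact le_of_eq hv
  have hT : T.Finite :=
    (Set.finite_Iic m).biUnion fun d _ => s.finite_toSet.biUnion fun g _ => (hfin d).image _
  refine Module.Finite.iff_fg.2 ?_
  suffices hle : LinearMap.range (e m) ≤ Submodule.span A T by
    have heq : (Submodule.span A T).map (e m) = LinearMap.range (e m) := by
      refine le_antisymm (LinearMap.map_le_range) ?_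
      rintro x ⟨g, rfl⟩
      exact ⟨e m g, hle ⟨g, rfl⟩, hg.idem m g⟩
    rw [← heq]
    exact (Submodule.fg_span hT).map _
  have key : ∀ (v : Fin (n + 1) →₀ ℕ) (g : G), ∀ d, v.degree = d → ∀ m',
      e m' ((MvPolynomial.monomial v (1 : A) : P) • g) =
        if d ≤ m' then (MvPolynomial.monomial v (1 : A) : P) • e (m' - d) g else 0 := by
    intro v g d hd
    induction d generalizing v g with
    | zero =>
      intro m'
      rw [show v = 0 from (Finsupp.degree_eq_zero_iff v).1 hd]
      simp
    | succ d ih =>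
      intro m'
      obtain ⟨j, hj⟩ : ∃ j, v j ≠ 0 := by
        by_contra hc
        simp only [not_exists, not_not] at hc
        rw [show v = 0 from Finsupp.ext hc] at hd
        simp at hd
      have hv : v = Finsupp.single j 1 + (v - Finsupp.single j 1) :=
        (add_tsub_cancel_of_le (Finsupp.single_le_iff.2 (Nat.one_le_iff_ne_zero.2 hj))).symm
      set w := v - Finsupp.single j 1 with hw
      have hdw : w.degree = d := by
        have h1 := congrArg Finsupp.degree hv
        rw [map_add, Finsupp.degree_single, hd] at h1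
        omega
      rw [hv, MvPolynomial.monomial_single_add, pow_one, mul_smul]
      rcases m' with _ | m'
      · rw [hg.zero, if_neg (by omega)]
      · rw [hg.succ, ih w g hdw m', Nat.succ_sub_succ]
        split_ifs with h1 h2
        · rw [mul_smul]
        · omega
        · omega
        · rw [smul_zero]
  rintro x ⟨g, rfl⟩
  have hgmem : g ∈ Submodule.span P (s : Set G) := by rw [hs]; trivial
  rw [Submodule.mem_span_finset] at hgmem
  obtain ⟨c, -, rfl⟩ := hgmem
  rw [map_sum]
  refine Submodule.sum_mem _ fun g hgs => ?_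
  rw [MvPolynomial.as_sum (c g), Finset.sum_smul, map_sum]
  refine Submodule.sum_mem _ fun v _ => ?_
  rw [show MvPolynomial.monomial v ((c g).coeff v) = (c g).coeff v • (MvPolynomial.monomial v (1 : A) : P) from
      by rw [MvPolynomial.smul_monomial, smul_eq_mul, mul_one], smul_assoc, map_smul,
    key v g v.degree rfl m]
  refine Submodule.smul_mem _ _ ?_
  split_ifs with h
  · exact Submodule.subset_span (Set.mem_biUnion (show v.degree ∈ Set.Iic m from h)
      (Set.mem_biUnion hgs ⟨v, rfl, rfl⟩))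
  · exact zero_mem _

variable [IsNoetherianRing A]

/-- A localisation of the residue domain at a prime over which two given modules become free. -/
theorem exists_generic_localization (p : Ideal A) [p.IsPrime] (C : Type u) [AddCommGroup C] [Module A C]
    [Module (MvPolynomial (Fin (n + 1)) A) C] [IsScalarTower A (MvPolynomial (Fin (n + 1)) A) C]
    [Module.Finite (MvPolynomial (Fin (n + 1)) A) C] :
    ∃ f : A, f ∉ p ∧ ∃ (Q : Type u) (_ : CommRing Q) (_ : Algebra A Q), IsDomain Q ∧
      Module.Free Q (Q ⊗[A] G) ∧ Module.Free Q (Q ⊗[A] C) ∧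
      (∀ g : G, ((1 : Q) ⊗ₜ[A] g = 0) ↔ ∃ k : ℕ, f ^ k • g ∈ (p • ⊤ : Submodule A G)) ∧
      (∀ w : Q ⊗[A] G, ∃ (a : A) (g : G),
        IsUnit (algebraMap A Q a) ∧ algebraMap A Q a • w = (1 : Q) ⊗ₜ[A] g) ∧
      ∀ (K : Type u) [Field K] [Algebra A K], p ≤ RingHom.ker (algebraMap A K) →
        algebraMap A K f ≠ 0 → Nonempty (Q →ₐ[A] K) := by
  classical
  let P := MvPolynomial (Fin (n + 1)) A
  let D := A ⧸ p
  haveI : IsNoetherianRing D := inferInstanceAs (IsNoetherianRing (A ⧸ p))
  haveI : IsDomain D := Ideal.Quotient.isDomain p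
  obtain ⟨f₁, hf₁, hfree₁⟩ :=
    (H47.GenericFree.gf_of_finiteType (R := D) (D ⊗[A] P) ((D ⊗[A] P) ⊗[P] G)).of_equiv
      (Algebra.IsPushout.cancelBaseChange A D P (D ⊗[A] P) G)
  obtain ⟨f₂, hf₂, hfree₂⟩ :=
    (H47.GenericFree.gf_of_finiteType (R := D) (D ⊗[A] P) ((D ⊗[A] P) ⊗[P] C)).of_equiv
      (Algebra.IsPushout.cancelBaseChange A D P (D ⊗[A] P) C)
  obtain ⟨f, hf⟩ := Ideal.Quotient.mk_surjective (f₁ * f₂)
  have hf0 : f₁ * f₂ ≠ 0 := mul_ne_zero hf₁ hf₂
  have hfp : f ∉ p := fun hc => hf0 (by rw [← hf]; exact Ideal.Quotient.eq_zero_iff_mem.2 hc)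
  haveI := H47.GenericFree.free_of_dvd (M := D ⊗[A] G) (f := f₁) (g := f₁ * f₂) (dvd_mul_right _ _)
  haveI := H47.GenericFree.free_of_dvd (M := D ⊗[A] C) (f := f₂) (g := f₁ * f₂) (dvd_mul_left _ _)
  let Q := Localization.Away (f₁ * f₂)
  refine ⟨f, hfp, Q, inferInstance, inferInstance,
    IsLocalization.isDomain_localization (powers_le_nonZeroDivisors_of_noZeroDivisors hf0),
    Module.Free.of_equiv (AlgebraTensorModule.cancelBaseChange A D Q Q G),
    Module.Free.of_equiv (AlgebraTensorModule.cancelBaseChange A D Q Q C), ?_, ?_, ?_⟩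
  · haveI : IsLocalizedModule (Submonoid.powers (f₁ * f₂)) (TensorProduct.mk D Q (D ⊗[A] G) 1) :=
      (isLocalizedModule_iff_isBaseChange (Submonoid.powers (f₁ * f₂)) Q _).2
        (TensorProduct.isBaseChange D (D ⊗[A] G) Q)
    intro g
    rw [← (AlgebraTensorModule.cancelBaseChange A D Q Q G).symm.map_eq_zero_iff,
      AlgebraTensorModule.cancelBaseChange_symm_tmul]
    refine (IsLocalizedModule.eq_zero_iff (Submonoid.powers (f₁ * f₂))
      (f := TensorProduct.mk D Q (D ⊗[A] G) 1) (m := (1 : D) ⊗ₜ[A] g)).trans ⟨?_, ?_⟩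
    · rintro ⟨⟨_, k, rfl⟩, hk⟩
      refine ⟨k, ?_⟩
      have h2 := congrArg (TensorProduct.quotTensorEquivQuotSMul G p) hk
      change (TensorProduct.quotTensorEquivQuotSMul G p) ((f₁ * f₂) ^ k • ((1 : D) ⊗ₜ[A] g)) = _ at h2
      rw [map_zero, TensorProduct.smul_tmul', smul_eq_mul, mul_one, ← hf, ← map_pow,
        TensorProduct.quotTensorEquivQuotSMul_mk_tmul, Submodule.Quotient.mk_eq_zero] at h2
      exact h2
    · rintro ⟨k, hk⟩
      refine ⟨⟨_, k, rfl⟩, (TensorProduct.quotTensorEquivQuotSMul G p).injective ?_⟩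
      show (TensorProduct.quotTensorEquivQuotSMul G p) ((f₁ * f₂) ^ k • ((1 : D) ⊗ₜ[A] g)) = _
      rw [map_zero, TensorProduct.smul_tmul', smul_eq_mul, mul_one, ← hf, ← map_pow,
        TensorProduct.quotTensorEquivQuotSMul_mk_tmul, Submodule.Quotient.mk_eq_zero]
      exact hk
  · haveI : IsLocalizedModule (Submonoid.powers (f₁ * f₂)) (TensorProduct.mk D Q (D ⊗[A] G) 1) :=
      (isLocalizedModule_iff_isBaseChange (Submonoid.powers (f₁ * f₂)) Q _).2
        (TensorProduct.isBaseChange D (D ⊗[A] G) Q)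
    have hsurj : Function.Surjective fun g : G => (1 : D) ⊗ₜ[A] g := fun y => by
      induction y with
      | zero => exact ⟨0, tmul_zero _ _⟩
      | tmul d g =>
        obtain ⟨a, rfl⟩ := Ideal.Quotient.mk_surjective d
        refine ⟨a • g, ?_⟩
        show (1 : D) ⊗ₜ[A] (a • g) = _
        rw [← smul_tmul, Algebra.smul_def, mul_one]
        rfl
      | add x y hx hy =>
        obtain ⟨g, rfl⟩ := hx
        obtain ⟨g', rfl⟩ := hy
        exact ⟨g + g', tmul_add _ _ _⟩
    intro w
    obtain ⟨⟨y, ⟨_, k, rfl⟩⟩, hy⟩ := IsLocalizedModule.surj (Submonoid.powers (f₁ * f₂))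
      (TensorProduct.mk D Q (D ⊗[A] G) 1) ((AlgebraTensorModule.cancelBaseChange A D Q Q G).symm w)
    obtain ⟨g, rfl⟩ := hsurj y
    refine ⟨f ^ k, g, ?_, ?_⟩
    · rw [IsScalarTower.algebraMap_apply A D Q, map_pow, Ideal.Quotient.algebraMap_eq, hf, map_pow]
      exact (IsLocalization.Away.algebraMap_isUnit (f₁ * f₂)).pow k
    · apply (AlgebraTensorModule.cancelBaseChange A D Q Q G).symm.injective
      rw [map_smul, AlgebraTensorModule.cancelBaseChange_symm_tmul, IsScalarTower.algebraMap_apply A D Q,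
        algebraMap_smul, map_pow, Ideal.Quotient.algebraMap_eq, hf]
      exact hy
  · intro K _ _ hpK hfK
    let φD : D →+* K := Ideal.Quotient.lift p (algebraMap A K) fun a ha => hpK ha
    have hφu : IsUnit (φD (f₁ * f₂)) := by
      rw [← hf]
      show IsUnit (algebraMap A K f)
      exact isUnit_iff_ne_zero.2 hfK
    refine ⟨{ toRingHom := IsLocalization.Away.lift (f₁ * f₂) hφu, commutes' := fun a => ?_ }⟩
    show IsLocalization.Away.lift (f₁ * f₂) hφu (algebraMap A Q a) = algebraMap A K a
    rw [IsScalarTower.algebraMap_apply A D Q, IsLocalization.Away.lift_eq]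
    rfl

omit [IsScalarTower A (MvPolynomial (Fin (n + 1)) A) G] [Module.Finite (MvPolynomial (Fin (n + 1)) A) G]
  [IsNoetherianRing A] in
theorem map_mem_smul_top (p : Ideal A) (φ : G →ₗ[A] G) {g : G} (hg : g ∈ (p • ⊤ : Submodule A G)) :
    φ g ∈ (p • ⊤ : Submodule A G) := by
  refine Submodule.smul_induction_on hg (fun a ha y _ => ?_) fun y z hy hz => ?_
  · rw [map_smul]; exact Submodule.smul_mem_smul ha trivial
  · rw [map_add]; exact add_mem hy hz

/-- In large degree, what the variables send into `p G` lies in `p G`. -/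
theorem exists_bound (hg : IsGrading n e) (p : Ideal A) :
    ∃ M : ℕ, ∀ m, M ≤ m → ∀ g, (∀ j : Fin (n + 1), xL A G j g ∈ (p • ⊤ : Submodule A G)) →
      e m g ∈ (p • ⊤ : Submodule A G) := by
  classical
  let P := MvPolynomial (Fin (n + 1)) A
  let pG : Submodule A G := p • ⊤
  have hPp : ∀ (r : P), ∀ g ∈ pG, r • g ∈ pG := fun r g hg =>
    map_mem_smul_top p (Algebra.lsmul A A G r) hg
  let N₀ : Submodule P G :=
    { carrier := {g | ∀ j : Fin (n + 1), xL A G j g ∈ pG}
      zero_mem' := fun j => by rw [map_zero]; exact zero_mem _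
      add_mem' := fun ha hb j => by rw [map_add]; exact add_mem (ha j) (hb j)
      smul_mem' := fun r g hg j => by
        rw [xL_apply, smul_comm]
        exact hPp r _ (hg j) }
  haveI : IsNoetherian P G := isNoetherian_of_isNoetherianRing_of_finite P G
  obtain ⟨t, ht⟩ := IsNoetherian.noetherian N₀
  choose Mg hMg using hg.eventually
  refine ⟨t.sup Mg, fun m hm g hgN => ?_⟩
  have hgN' : g ∈ Submodule.span P (t : Set G) := by rw [ht]; exact hgN
  rw [Submodule.mem_span_finset] at hgN'
  obtain ⟨c, -, rfl⟩ := hgN'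
  rw [map_sum]
  refine Submodule.sum_mem _ fun k hk => ?_
  have hkN : ∀ j : Fin (n + 1), xL A G j k ∈ pG := (show k ∈ N₀ from ht ▸ Submodule.subset_span hk)
  generalize c k = r
  induction r using MvPolynomial.induction_on with
  | C a =>
    rw [← MvPolynomial.algebraMap_eq, algebraMap_smul, map_smul,
      hMg k m ((Finset.le_sup hk).trans hm), smul_zero]
    exact zero_mem _
  | add a b ha hb => rw [add_smul, map_add]; exact add_mem ha hb
  | mul_X a i _ =>
    rw [mul_smul]
    exact map_mem_smul_top p (e m) (hPp a _ (hkN i))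

omit [IsScalarTower A (MvPolynomial (Fin (n + 1)) A) G] [Module.Finite (MvPolynomial (Fin (n + 1)) A) G]
  [IsNoetherianRing A] in
/-- A partial inverse of a linear map with free cokernel between free modules. -/
theorem exists_partial_inverse {F C : Type u} [AddCommGroup F] [Module A F] [AddCommGroup C] [Module A C]
    (Φ : G →ₗ[A] F) (q : F →ₗ[A] C) (hq : Function.Surjective q) (hex : Function.Exact Φ q)
    (Q : Type u) [CommRing Q] [Algebra A Q] [Module.Free Q (Q ⊗[A] F)] [Module.Free Q (Q ⊗[A] C)] :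
    ∃ s : (Q ⊗[A] F) →ₗ[Q] Q ⊗[A] G, ∀ w, Φ.baseChange Q (w - s (Φ.baseChange Q w)) = 0 := by
  have hex' : Function.Exact (Φ.baseChange Q) (q.baseChange Q) := lTensor_exact Q hex hq
  obtain ⟨σ, hσ⟩ := Module.projective_lifting_property (q.baseChange Q) LinearMap.id
    (LinearMap.lTensor_surjective Q hq)
  let π : (Q ⊗[A] F) →ₗ[Q] LinearMap.range (Φ.baseChange Q) :=
    LinearMap.codRestrict _ (LinearMap.id - σ ∘ₗ q.baseChange Q) fun y => by
      refine (hex' _).1 ?_
      show q.baseChange Q (y - σ (q.baseChange Q y)) = 0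
      rw [map_sub, show q.baseChange Q (σ (q.baseChange Q y)) = q.baseChange Q y from
        LinearMap.congr_fun hσ (q.baseChange Q y), sub_self]
  have hπ : ∀ y : LinearMap.range (Φ.baseChange Q), π y.1 = y := fun y => Subtype.ext <| by
    show (y : Q ⊗[A] F) - σ (q.baseChange Q y) = y
    rw [show q.baseChange Q y.1 = 0 from (hex' _).2 y.2, map_zero, sub_zero]
  haveI : Module.Projective Q (LinearMap.range (Φ.baseChange Q)) :=
    Module.Projective.of_split (LinearMap.range (Φ.baseChange Q)).subtype π (LinearMap.ext hπ)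
  obtain ⟨τ, hτ⟩ := Module.projective_lifting_property (Φ.baseChange Q).rangeRestrict LinearMap.id
    (LinearMap.surjective_rangeRestrict _)
  refine ⟨τ ∘ₗ π, fun w => ?_⟩
  have h1 : Φ.baseChange Q (τ ⟨Φ.baseChange Q w, w, rfl⟩) = Φ.baseChange Q w :=
    congrArg Subtype.val (LinearMap.congr_fun hτ ⟨Φ.baseChange Q w, w, rfl⟩)
  rw [map_sub, sub_eq_zero, LinearMap.comp_apply, hπ ⟨Φ.baseChange Q w, w, rfl⟩]
  exact h1.symm

omit [IsScalarTower A (MvPolynomial (Fin (n + 1)) A) G] [Module.Finite (MvPolynomial (Fin (n + 1)) A) G]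
  [IsNoetherianRing A] in
/-- Two successive base changes of a linear map. -/
theorem cancelBaseChange_baseChange {F : Type u} [AddCommGroup F] [Module A F] (φ : G →ₗ[A] F)
    (Q K : Type u) [CommRing Q] [Algebra A Q] [CommRing K] [Algebra A K] [Algebra Q K] [IsScalarTower A Q K]
    (y : K ⊗[Q] (Q ⊗[A] G)) :
    AlgebraTensorModule.cancelBaseChange A Q K K F ((φ.baseChange Q).baseChange K y) =
      φ.baseChange K (AlgebraTensorModule.cancelBaseChange A Q K K G y) := by
  induction y with
  | zero => simp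
  | add a b ha hb => simp [ha, hb]
  | tmul a w =>
    induction w with
    | zero => simp
    | add w w' hw hw' => rw [tmul_add]; simp only [map_add, hw, hw']
    | tmul b g => simp

/-- The case of the residue domain at a prime: good behaviour on a nonempty open. -/
theorem exists_good_generic (hg : IsGrading n e) (p : Ideal A) [p.IsPrime] :
    ∃ f ∉ p, ∃ (M : ℕ) (h : ℕ → ℕ), ∀ (K : Type u) [Field K] [Algebra A K],
      p ≤ RingHom.ker (algebraMap A K) → algebraMap A K f ≠ 0 →
        GoodAt n e M K ∧ ∀ m, dimAt e K m = h m := by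
  classical
  let P := MvPolynomial (Fin (n + 1)) A
  let Φ : G →ₗ[P] Fin (n + 1) → G := LinearMap.pi fun j => LinearMap.lsmul P G (MvPolynomial.X j)
  let ΦA : G →ₗ[A] Fin (n + 1) → G := LinearMap.pi fun j => xL A G j
  let C := (Fin (n + 1) → G) ⧸ LinearMap.range Φ
  let q : (Fin (n + 1) → G) →ₗ[A] C := (LinearMap.range Φ).mkQ.restrictScalars A
  obtain ⟨f, hfp, Q, _, _, _, hfG, hfC, hzero, hfrac, hlift⟩ :=
    exists_generic_localization (G := G) (n := n) p C
  obtain ⟨M, hbound⟩ := exists_bound hg p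
  haveI : Module.Free Q (Q ⊗[A] (Fin (n + 1) → G)) :=
    Module.Free.of_equiv (TensorProduct.piRight A Q Q fun _ : Fin (n + 1) => G).symm
  have hqs : Function.Surjective q := fun y =>
    Submodule.Quotient.induction_on (LinearMap.range Φ) y fun v => ⟨v, rfl⟩
  have hex : Function.Exact ΦA q := fun y => Submodule.Quotient.mk_eq_zero (LinearMap.range Φ)
  obtain ⟨s, hs⟩ := exists_partial_inverse ΦA q hqs hex Q
  have hker : ∀ m, M ≤ m → ∀ w : Q ⊗[A] G, ΦA.baseChange Q w = 0 → (e m).baseChange Q w = 0 := by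
    intro m hm w hw
    obtain ⟨a, g, ha, hag⟩ := hfrac w
    have hw' : ΦA.baseChange Q ((1 : Q) ⊗ₜ[A] g) = 0 := by rw [← hag, map_smul, hw, smul_zero]
    have hj : ∀ j : Fin (n + 1), (1 : Q) ⊗ₜ[A] (xL A G j g) = 0 := fun j => by
      have := congrArg (((LinearMap.proj j : (Fin (n + 1) → G) →ₗ[A] G)).baseChange Q) hw'
      rwa [map_zero, LinearMap.baseChange_tmul, LinearMap.baseChange_tmul] at this
    choose k hk using fun j => (hzero _).1 (hj j)
    let K₀ := Finset.univ.sup k
    have hk' : ∀ j, xL A G j (f ^ K₀ • g) ∈ (p • ⊤ : Submodule A G) := fun j => by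
      rw [map_smul, show K₀ = Finset.univ.sup k from rfl, ← Nat.sub_add_cancel (Finset.le_sup (f := k) (Finset.mem_univ j)), pow_add, mul_smul]
      exact Submodule.smul_mem _ _ (hk j)
    have h2 : (1 : Q) ⊗ₜ[A] (e m g) = 0 :=
      (hzero _).2 ⟨K₀, by rw [← map_smul]; exact hbound m hm _ hk'⟩
    refine (ha.smul_eq_zero).1 ?_
    rw [← map_smul, hag, LinearMap.baseChange_tmul, h2]
  have hproj : ∀ m, Module.Projective Q (Q ⊗[A] LinearMap.range (e m)) := fun m =>
    Module.Projective.of_split ((incl e m).baseChange Q) ((proj e m).baseChange Q)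
      (by rw [← LinearMap.baseChange_comp, hg.proj_comp_incl, LinearMap.baseChange_id])
  refine ⟨f, hfp, M, fun m => Module.rankAtStalk (Q ⊗[A] LinearMap.range (e m))
    (⟨⊥, Ideal.isPrime_bot⟩ : PrimeSpectrum Q), fun K _ _ hpK hfK => ?_⟩
  obtain ⟨φ⟩ := hlift K hpK hfK
  letI : Algebra Q K := φ.toRingHom.toAlgebra
  haveI : IsScalarTower A Q K := IsScalarTower.of_algebraMap_eq fun a => (φ.commutes a).symm
  refine ⟨fun m hm z hz hjz => ?_, fun m => ?_⟩
  · have hlin : (e m).baseChange Q = ((e m).baseChange Q ∘ₗ s) ∘ₗ ΦA.baseChange Q :=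
      LinearMap.ext fun w => by
        have := hker m hm _ (hs w)
        rw [map_sub, sub_eq_zero] at this
        exact this
    have hΦz : ΦA.baseChange K z = 0 := by
      apply (TensorProduct.piRight A A K fun _ : Fin (n + 1) => G).injective
      ext j
      have key : ∀ y, TensorProduct.piRightHom A A K (fun _ : Fin (n + 1) => G) (ΦA.baseChange K y) j =
          (xL A G j).baseChange K y := fun y => by
        induction y with
        | zero => simp
        | add a b ha hb => simp only [map_add, Pi.add_apply, ha, hb]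
        | tmul a g => simp [ΦA]
      rw [map_zero, Pi.zero_apply, ← hjz j]
      exact key z
    obtain ⟨y, rfl⟩ := (AlgebraTensorModule.cancelBaseChange A Q K K G).surjective z
    have hy : (ΦA.baseChange Q).baseChange K y = 0 :=
      (AlgebraTensorModule.cancelBaseChange A Q K K (Fin (n + 1) → G)).injective
        (by rw [cancelBaseChange_baseChange, hΦz, map_zero])
    rw [← hz, ← cancelBaseChange_baseChange, hlin, LinearMap.baseChange_comp, LinearMap.comp_apply,
      hy, map_zero, map_zero]
  · haveI := hg.finite_range m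
    haveI := hproj m
    haveI : PreconnectedSpace (PrimeSpectrum Q) := inferInstance
    have hK : Module.rankAtStalk (R := K) (K ⊗[Q] (Q ⊗[A] LinearMap.range (e m))) ⟨⊥, Ideal.isPrime_bot⟩ =
        Module.finrank K (K ⊗[Q] (Q ⊗[A] LinearMap.range (e m))) := by
      rw [Module.rankAtStalk_eq_finrank_of_free]
      simp
    rw [dimAt, ← (AlgebraTensorModule.cancelBaseChange A Q K K (LinearMap.range (e m))).finrank_eq, ← hK,
      Module.rankAtStalk_baseChange]
    haveI : Module.FinitePresentation Q (Q ⊗[A] LinearMap.range (e m)) :=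
      Module.finitePresentation_of_projective _ _
    exact (Module.isLocallyConstant_rankAtStalk (R := Q) (M := Q ⊗[A] LinearMap.range (e m))).apply_eq_of_preconnectedSpace _ _

/-- Good behaviour at all points, and finitely many dimension functions. -/
theorem exists_good (hg : IsGrading n e) :
    ∃ (M : ℕ) (H : Finset (ℕ → ℕ)), ∀ (K : Type u) [Field K] [Algebra A K],
      GoodAt n e M K ∧ ∃ h ∈ H, ∀ m, dimAt e K m = h m := by
  classical
  suffices key : ∀ I : Ideal A, ∃ (M : ℕ) (H : Finset (ℕ → ℕ)), ∀ (K : Type u) [Field K] [Algebra A K],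
      I ≤ RingHom.ker (algebraMap A K) → GoodAt n e M K ∧ ∃ h ∈ H, ∀ m, dimAt e K m = h m by
    obtain ⟨M, H, h⟩ := key ⊥
    exact ⟨M, H, fun K _ _ => h K bot_le⟩
  intro I
  induction I using IsNoetherian.induction with
  | hgt I ih =>
    by_cases hI : I = ⊤
    · exact ⟨0, ∅, fun K _ _ hK => absurd (RingHom.mem_ker.1 (hK (hI ▸ Submodule.mem_top : (1 : A) ∈ I)))
        (by simp)⟩
    by_cases hp : Ideal.IsPrime I
    · obtain ⟨f, hf, M, h, hgen⟩ := exists_good_generic hg I
      obtain ⟨M', H', h'⟩ := ih (I ⊔ Ideal.span {f}) (lt_of_le_of_ne le_sup_left fun hc =>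
        hf (hc ▸ Ideal.mem_sup_right (Ideal.mem_span_singleton_self f)))
      refine ⟨max M M', insert h H', fun K _ _ hK => ?_⟩
      by_cases hfK : algebraMap A K f = 0
      · obtain ⟨h1, h2, h2m, h3⟩ := h' K (sup_le hK ((Ideal.span_singleton_le_iff_mem _).2 hfK))
        exact ⟨h1.mono (le_max_right _ _), h2, Finset.mem_insert_of_mem h2m, h3⟩
      · obtain ⟨h1, h2⟩ := hgen K hK hfK
        exact ⟨h1.mono (le_max_left _ _), h, Finset.mem_insert_self _ _, h2⟩
    · obtain ⟨a, ha, b, hb, hab⟩ : ∃ a ∉ I, ∃ b ∉ I, a * b ∈ I := by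
        by_contra hc
        exact hp ⟨hI, fun {a b} hab => by
          by_contra h'
          rw [not_or] at h'
          exact hc ⟨a, h'.1, b, h'.2, hab⟩⟩
      obtain ⟨M₁, H₁, h₁⟩ := ih (I ⊔ Ideal.span {a}) (lt_of_le_of_ne le_sup_left fun hc =>
        ha (hc ▸ Ideal.mem_sup_right (Ideal.mem_span_singleton_self a)))
      obtain ⟨M₂, H₂, h₂⟩ := ih (I ⊔ Ideal.span {b}) (lt_of_le_of_ne le_sup_left fun hc =>
        hb (hc ▸ Ideal.mem_sup_right (Ideal.mem_span_singleton_self b)))
      refine ⟨max M₁ M₂, H₁ ∪ H₂, fun K _ _ hK => ?_⟩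
      have habK : algebraMap A K a * algebraMap A K b = 0 := by
        rw [← map_mul]; exact hK hab
      rcases mul_eq_zero.1 habK with h | h
      · obtain ⟨h1, h2, h2m, h3⟩ := h₁ K (sup_le hK ((Ideal.span_singleton_le_iff_mem _).2 h))
        exact ⟨h1.mono (le_max_left _ _), h2, Finset.mem_union_left _ h2m, h3⟩
      · obtain ⟨h1, h2, h2m, h3⟩ := h₂ K (sup_le hK ((Ideal.span_singleton_le_iff_mem _).2 h))
        exact ⟨h1.mono (le_max_right _ _), h2, Finset.mem_union_right _ h2m, h3⟩

end Finite

end Groth.Agent.Lib.FlatStrat53
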