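import Groth.Agent.Lib.FlatStrat53.Model
import Mathlib.RingTheory.Polynomial.Basic

/-!
# In high degree a model consists of all compatible tuples
-/

set_option autoImplicit false
set_option linter.style.haveILetI false
set_option linter.style.show false

universe u

namespace Groth.Agent.Lib.FlatStrat53

variable {A : Type u} [CommRing A] {n : ℕ} {R : Fin (n + 1) → Type u} [∀ i, CommRing (R i)]
  [∀ i, Algebra A (R i)] {M : Fin (n + 1) → Type u} [∀ i, AddCommGroup (M i)] [∀ i, Module A (M i)]
  [∀ i, Module (R i) (M i)] [∀ i, IsScalarTower A (R i) (M i)] {t : ∀ i, Fin (n + 1) → R i}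

/-- Over a Noetherian ring, the parts of high degree of a model are all compatible tuples. -/
theorem exists_model_eq [IsNoetherianRing A] (ht : ∀ i, t i i = 1) (S : ℕ → Submodule A (∀ i, M i))
    (hmul : ∀ m v, v ∈ S m → ∀ j, (fun i => t i j • v i) ∈ S (m + 1))
    (hker : ∀ m v, v ∈ S m → ∀ i, v i = 0 → ∃ p : ℕ, ∀ k, t k i ^ p • v k = 0)
    (𝔐 : Model (A := A) t M) (hS : ∀ m g, 𝔐.e m g = g → (fun i => 𝔐.ψ i g) ∈ S m) :
    ∃ m₁, ∀ m, m₁ ≤ m → ∀ v ∈ S m, ∃ g, 𝔐.e m g = g ∧ ∀ i, 𝔐.ψ i g = v i := by
  classical
  let P := MvPolynomial (Fin (n + 1)) A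
  -- the tuples which are images of homogeneous elements
  let Im : ℕ → (∀ i, M i) → Prop := fun m v => ∃ g, 𝔐.e m g = g ∧ ∀ i, 𝔐.ψ i g = v i
  have hImX : ∀ m v, Im m v → ∀ j, Im (m + 1) fun i => t i j • v i := by
    rintro m v ⟨g, hg, hgv⟩ j
    exact ⟨(MvPolynomial.X j : P) • g, by rw [𝔐.grading.succ, hg], fun i => by rw [𝔐.smul, hgv]⟩
  have hImp : ∀ (j : Fin (n + 1)) (p m : ℕ) v, Im m v → Im (m + p) fun i => t i j ^ p • v i := by
    intro j p
    induction p with
    | zero => intro m v hv; simpa using hv
    | succ p ih =>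
      intro m v hv
      have := hImX _ _ (ih m v hv) j
      simp only [smul_smul, ← pow_succ'] at this
      exact this
  have hSp : ∀ (j : Fin (n + 1)) (p m : ℕ) v, v ∈ S m → (fun i => t i j ^ p • v i) ∈ S (m + p) := by
    intro j p
    induction p with
    | zero => intro m v hv; simpa using hv
    | succ p ih =>
      intro m v hv
      have := hmul _ _ (ih m v hv) j
      simp only [smul_smul, ← pow_succ'] at this
      exact this
  have uniq : ∀ m (x y : 𝔐.G), 𝔐.e m x = x → 𝔐.e m y = y → (∀ i, 𝔐.ψ i x = 𝔐.ψ i y) → x = y :=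
    fun m x y hx hy h => sub_eq_zero.1 (𝔐.inj m _ (by rw [map_sub, hx, hy])
      fun i => by rw [map_sub, h i, sub_self])
  -- a power of each variable moves a tuple into the image
  have hpow : ∀ m v, v ∈ S m → ∀ i, ∃ q, Im (m + q) fun k => t k i ^ q • v k := by
    intro m v hv i
    obtain ⟨m', g, hg, hgi⟩ := 𝔐.charts.surj i (v i)
    let l := m + m'
    let a : ∀ k, M k := fun k => t k i ^ m • 𝔐.ψ k g
    let b : ∀ k, M k := fun k => t k i ^ m' • v k
    have ha : Im l a := by
      have := hImp i m m' (fun k => 𝔐.ψ k g) ⟨g, hg, fun _ => rfl⟩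
      rwa [add_comm m' m] at this
    have hb : b ∈ S l := hSp i m' m v hv
    have haS : a ∈ S l := by
      obtain ⟨x, hx, hxa⟩ := ha
      rw [← show (fun k => 𝔐.ψ k x) = a from funext hxa]
      exact hS l x hx
    obtain ⟨p, hp⟩ := hker l (b - a) (sub_mem hb haS) i (by simp [a, b, ht, hgi])
    refine ⟨m' + p, ?_⟩
    have h1 := hImp i p l a ha
    rw [show m + (m' + p) = l + p from (add_assoc m m' p).symm]
    have h2 : (fun k => t k i ^ (m' + p) • v k) = fun k => t k i ^ p • a k := funext fun k => by
      have h := hp k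
      rw [Pi.sub_apply, smul_sub, sub_eq_zero] at h
      rw [← h, smul_smul, ← pow_add, add_comm]
    rw [h2]
    exact h1
  -- the syzygies of the irrelevant ideal
  let Z : Submodule P (Fin (n + 1) → 𝔐.G) :=
    { carrier := {z | ∀ i j, (MvPolynomial.X i : P) • z j = (MvPolynomial.X j : P) • z i}
      zero_mem' := fun i j => by simp
      add_mem' := fun {a b} ha hb i j => by
        rw [Pi.add_apply, Pi.add_apply, smul_add, smul_add, ha i j, hb i j]
      smul_mem' := fun c a ha i j => by
        rw [Pi.smul_apply, Pi.smul_apply, smul_comm, ha i j, smul_comm] }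
  haveI : IsNoetherian P (Fin (n + 1) → 𝔐.G) := inferInstance
  obtain ⟨s, hs⟩ := IsNoetherian.noetherian Z
  choose B hB using 𝔐.grading.eventually
  let N := s.sup fun z => Finset.univ.sup fun j => B (z j)
  have hZ : ∀ z ∈ Z, ∀ m, N ≤ m + 1 → (∀ j, 𝔐.e (m + 1) (z j) = z j) →
      ∃ g, 𝔐.e m g = g ∧ ∀ j, z j = (MvPolynomial.X j : P) • g := by
    intro z hz m hm hzm
    -- modulo the multiples of the variables, `Z` is spanned over `A` by the generators
    let T : Submodule P (Fin (n + 1) → 𝔐.G) :=
      LinearMap.range (LinearMap.pi fun j => LinearMap.lsmul P 𝔐.G (MvPolynomial.X j : P))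
    have key : ∀ y ∈ Z, y ∈ (Submodule.span A (s : Set (Fin (n + 1) → 𝔐.G))) ⊔ T.restrictScalars A := by
      intro y hy
      rw [← hs] at hy
      induction hy using Submodule.span_induction with
      | mem y hy => exact Submodule.mem_sup_left (Submodule.subset_span hy)
      | zero => exact zero_mem _
      | add a b _ _ ha hb => exact add_mem ha hb
      | smul c a ha' ha =>
        induction c using MvPolynomial.induction_on with
        | C c =>
          rw [show (MvPolynomial.C c : P) • a = c • a from funext fun j => algebraMap_smul P c (a j)]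
          exact Submodule.smul_mem _ c ha
        | add p q hp hq => rw [add_smul]; exact add_mem hp hq
        | mul_X p j hp =>
          refine Submodule.mem_sup_right ?_
          rw [Submodule.restrictScalars_mem, mul_smul]
          refine Submodule.smul_mem _ p ⟨a j, funext fun k => ?_⟩
          rw [hs] at ha'
          show (MvPolynomial.X k : P) • a j = (MvPolynomial.X j : P) • a k
          exact ha' k j
    obtain ⟨y, hy, w, ⟨g, rfl⟩, hyw⟩ := Submodule.mem_sup.1 (key z hz)
    have hy0 : ∀ j, 𝔐.e (m + 1) (y j) = 0 := by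
      clear hyw
      intro j
      induction hy using Submodule.span_induction with
      | mem y hy =>
        exact hB _ _ (((Finset.le_sup (f := fun j => B (y j)) (Finset.mem_univ j)).trans
          (Finset.le_sup (f := fun z => Finset.univ.sup fun j => B (z j)) hy)).trans hm)
      | zero => exact map_zero _
      | add a b _ _ ha hb => rw [Pi.add_apply, map_add, ha, hb, add_zero]
      | smul c a _ ha => rw [Pi.smul_apply, map_smul, ha, smul_zero]
    refine ⟨𝔐.e m g, 𝔐.grading.idem m g, fun j => ?_⟩
    rw [← hzm j, ← congrFun hyw j, Pi.add_apply, map_add, hy0, zero_add, LinearMap.pi_apply,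
      LinearMap.lsmul_apply, 𝔐.grading.succ]
  -- descend
  refine ⟨N, fun m hm v hv => ?_⟩
  choose q hq using hpow m v hv
  suffices h : ∀ (Q : ℕ) m v, N ≤ m → v ∈ S m → ∀ q : Fin (n + 1) → ℕ, ∑ i, q i ≤ Q →
      (∀ i, Im (m + q i) fun k => t k i ^ q i • v k) → Im m v by
    exact h _ m v hm hv q le_rfl hq
  intro Q
  induction Q with
  | zero =>
    intro m v _ _ q hq h
    have h0 : q 0 = 0 := Nat.eq_zero_of_le_zero ((Finset.single_le_sum (fun _ _ => Nat.zero_le _)
      (Finset.mem_univ 0)).trans hq)
    simpa [h0] using h 0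
  | succ Q ih =>
    intro m v hm hv q hq h
    by_cases h0 : ∃ i, q i = 0
    · obtain ⟨i, hi⟩ := h0
      simpa [hi] using h i
    simp only [not_exists] at h0
    -- each multiple by a variable is in the image
    have hj : ∀ j, Im (m + 1) fun k => t k j • v k := by
      intro j
      refine ih (m + 1) _ (by omega) (hmul m v hv j) (Function.update q j (q j - 1)) ?_ fun i => ?_
      · rw [Finset.sum_update_of_mem (Finset.mem_univ j)]
        have := Finset.add_sum_erase Finset.univ q (Finset.mem_univ j)
        rw [Finset.sdiff_singleton_eq_erase]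
        have := h0 j
        omega
      · by_cases hij : i = j
        · subst hij
          rw [Function.update_self, show m + 1 + (q i - 1) = m + q i by have := h0 i; omega]
          convert h i using 2 with k
          rw [smul_smul, ← pow_succ, Nat.sub_add_cancel (Nat.one_le_iff_ne_zero.2 (h0 i))]
        · rw [Function.update_of_ne hij, show m + 1 + q i = m + q i + 1 by omega]
          convert hImX _ _ (h i) j using 2 with k
          rw [smul_smul, smul_smul, mul_comm]
    choose g hge hgv using hj
    have hzZ : g ∈ Z := fun i j => uniq (m + 2) _ _ (by rw [𝔐.grading.succ, hge])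
      (by rw [𝔐.grading.succ, hge]) fun k => by
        rw [𝔐.smul, 𝔐.smul, hgv, hgv, smul_smul, smul_smul, mul_comm]
    obtain ⟨g', hg', hgg⟩ := hZ g hzZ m (by omega) hge
    refine ⟨g', hg', fun k => ?_⟩
    have := hgv k k
    simp only [hgg, 𝔐.smul, ht, one_smul] at this
    exact this

end Groth.Agent.Lib.FlatStrat53
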