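import Groth.Agent.Lib.FlatStrat53.Criterion
import Mathlib.Algebra.Polynomial.Module.Basic
import Mathlib.RingTheory.Adjoin.Basic

/-!
# Graded models of a family of chart modules

For chart modules `M i` over chart rings `R i` (generated over `A` by the coordinates `t i j`) with a
family `S m` of compatible tuples in each degree, a finite graded module dehomogenising to all `M i`.
-/

set_option autoImplicit false
set_option linter.style.haveILetI false
set_option linter.style.show false

universe u

open TensorProduct

namespace Groth.Agent.Lib.FlatStrat53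

variable {A : Type u} [CommRing A] {n : ℕ} {R : Fin (n + 1) → Type u} [∀ i, CommRing (R i)]
  [∀ i, Algebra A (R i)] {M : Fin (n + 1) → Type u} [∀ i, AddCommGroup (M i)] [∀ i, Module A (M i)]
  [∀ i, Module (R i) (M i)] [∀ i, IsScalarTower A (R i) (M i)] (t : ∀ i, Fin (n + 1) → R i)

/-- A finite graded module with given dehomogenisations. -/
structure Model (M : Fin (n + 1) → Type u) [∀ i, AddCommGroup (M i)] [∀ i, Module A (M i)]
    [∀ i, Module (R i) (M i)] : Type (u + 1) where
  /-- The module. -/
  G : Type u
  [instAdd : AddCommGroup G]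
  [instA : Module A G]
  [instP : Module (MvPolynomial (Fin (n + 1)) A) G]
  [instTower : IsScalarTower A (MvPolynomial (Fin (n + 1)) A) G]
  [instFinite : Module.Finite (MvPolynomial (Fin (n + 1)) A) G]
  /-- The projections on the homogeneous parts. -/
  e : ℕ → G →ₗ[A] G
  /-- The dehomogenisations. -/
  ψ : ∀ i, G →ₗ[A] M i
  grading : IsGrading n e
  charts : IsCharts n e ψ
  smul : ∀ i j g, ψ i ((MvPolynomial.X j : MvPolynomial (Fin (n + 1)) A) • g) = t i j • ψ i g
  inj : ∀ m g, e m g = g → (∀ i, ψ i g = 0) → g = 0

attribute [instance] Model.instAdd Model.instA Model.instP Model.instTower Model.instFinite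

/-- Existence of models containing prescribed elements. -/
theorem exists_model [∀ i, Module.Finite (R i) (M i)] (ht : ∀ i, t i i = 1)
    (hgen : ∀ i, Algebra.adjoin A (Set.range (t i)) = ⊤) (S : ℕ → Submodule A (∀ i, M i))
    (hmul : ∀ m v, v ∈ S m → ∀ j, (fun i => t i j • v i) ∈ S (m + 1))
    (hker : ∀ m v, v ∈ S m → ∀ i, v i = 0 → ∃ p : ℕ, ∀ k, t k i ^ p • v k = 0)
    (hsurj : ∀ i x, ∃ m, ∃ v ∈ S m, v i = x) (extra : Finset (ℕ × ∀ i, M i))
    (hextra : ∀ q ∈ extra, q.2 ∈ S q.1) :
    ∃ 𝔐 : Model (A := A) t M, (∀ q ∈ extra, ∃ g, 𝔐.e q.1 g = g ∧ ∀ i, 𝔐.ψ i g = q.2 i) ∧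
      ∀ m g, 𝔐.e m g = g → (fun i => 𝔐.ψ i g) ∈ S m := by
  classical
  let P := MvPolynomial (Fin (n + 1)) A
  let φ : ∀ i, P →+* Polynomial (R i) := fun i =>
    MvPolynomial.eval₂Hom (Polynomial.C.comp (algebraMap A (R i))) fun j => Polynomial.C (t i j) * Polynomial.X
  letI : ∀ i, Module P (PolynomialModule (R i) (M i)) := fun i => Module.compHom _ (φ i)
  haveI : ∀ i, IsScalarTower A P (PolynomialModule (R i) (M i)) := fun i =>
    IsScalarTower.of_algebraMap_smul fun a w => by
      show φ i (MvPolynomial.C a) • w = a • w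
      rw [show φ i (MvPolynomial.C a) = Polynomial.C (algebraMap A (R i) a) from MvPolynomial.eval₂Hom_C _ _ _,
        ← Polynomial.algebraMap_eq, ← IsScalarTower.algebraMap_apply A (R i) (Polynomial (R i))]
      exact IsScalarTower.algebraMap_smul _ a w
  have hX : ∀ i j m (v : M i), (MvPolynomial.X j : P) • PolynomialModule.single (R i) m v =
      PolynomialModule.single (R i) (m + 1) (t i j • v) := fun i j m v => by
    show φ i (MvPolynomial.X j) • PolynomialModule.single (R i) m v = _
    rw [show φ i (MvPolynomial.X j) = Polynomial.C (t i j) * Polynomial.X from MvPolynomial.eval₂Hom_X' _ _ _,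
      Polynomial.C_mul_X_eq_monomial, PolynomialModule.monomial_smul_single, add_comm]
  let W := ∀ i, PolynomialModule (R i) (M i)
  let sgl : ℕ → (∀ i, M i) → W := fun m v i => PolynomialModule.single (R i) m (v i)
  have hXs : ∀ j m v, (MvPolynomial.X j : P) • sgl m v = sgl (m + 1) fun i => t i j • v i := fun j m v =>
    funext fun i => hX i j m (v i)
  let cf : ℕ → W → (∀ i, M i) := fun m w i => (w i).coeff m
  let eW : ℕ → W →ₗ[A] W := fun m =>
    { toFun := fun w => sgl m (cf m w)
      map_add' := fun a b => funext fun i => PolynomialModule.single_add m ((a i).coeff m) ((b i).coeff m)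
      map_smul' := fun a w => funext fun i => by
        apply PolynomialModule.ext
        ext k
        show Finsupp.single m (a • (w i).coeff m) k = a • (Finsupp.single m ((w i).coeff m) k)
        simp [Finsupp.single_apply, smul_ite] }
  have hcfX : ∀ j m w i, cf (m + 1) ((MvPolynomial.X j : P) • w) i = t i j • cf m w i := fun j m w i => by
    show ((MvPolynomial.X j : P) • w i).coeff (m + 1) = t i j • (w i).coeff m
    induction w i using PolynomialModule.induction_linear with
    | zero => simp
    | add a b ha hb => simp [smul_add, ha, hb]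
    | single k v => rw [hX]; simp [Finsupp.single_apply, smul_ite]
  have hcf0 : ∀ j w i, cf 0 ((MvPolynomial.X j : P) • w) i = 0 := fun j w i => by
    show ((MvPolynomial.X j : P) • w i).coeff 0 = 0
    induction w i using PolynomialModule.induction_linear with
    | zero => simp
    | add a b ha hb => simp [smul_add, ha, hb]
    | single k v => rw [hX]; simp
  have hesucc : ∀ m j w, eW (m + 1) ((MvPolynomial.X j : P) • w) = (MvPolynomial.X j : P) • eW m w :=
    fun m j w => by
      show sgl (m + 1) (cf (m + 1) _) = (MvPolynomial.X j : P) • sgl m (cf m w)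
      rw [hXs]
      exact congrArg (sgl (m + 1)) (funext fun i => hcfX j m w i)
  have hezero : ∀ j w, eW 0 ((MvPolynomial.X j : P) • w) = 0 := fun j w => funext fun i => by
    show PolynomialModule.single (R i) 0 (cf 0 _ i) = 0
    rw [hcf0, PolynomialModule.single_zero]
  -- generators
  choose s hs using fun i => (Module.Finite.fg_top (R := R i) (M := M i))
  choose dg wg hwg hwgi using hsurj
  let T : Finset (ℕ × ∀ i, M i) :=
    extra ∪ Finset.univ.biUnion fun i => (s i).image fun x => (dg i x, wg i x)
  have hT : ∀ q ∈ T, q.2 ∈ S q.1 := fun q hq => by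
    rcases Finset.mem_union.1 hq with hq | hq
    · exact hextra q hq
    · obtain ⟨i, -, hq⟩ := Finset.mem_biUnion.1 hq
      obtain ⟨x, -, rfl⟩ := Finset.mem_image.1 hq
      exact hwg i x
  let G₀ : Submodule P W := Submodule.span P ↑(T.image fun q => sgl q.1 q.2)
  have hgenmem : ∀ q ∈ T, sgl q.1 q.2 ∈ G₀ := fun q hq =>
    Submodule.subset_span (Finset.mem_coe.2 (Finset.mem_image_of_mem _ hq))
  -- the span is homogeneous and compatible
  have key : ∀ (r : P) (w : W), (∀ m, eW m w ∈ G₀ ∧ cf m w ∈ S m) →
      ∀ m, eW m (r • w) ∈ G₀ ∧ cf m (r • w) ∈ S m := by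
    intro r
    induction r using MvPolynomial.induction_on with
    | C a =>
      intro w hw m
      have hC : (MvPolynomial.C a : P) • w = a • w := algebraMap_smul P a w
      rw [hC]
      refine ⟨by rw [map_smul]; exact G₀.smul_of_tower_mem a (hw m).1, ?_⟩
      show (fun i => (a • w i).coeff m) ∈ S m
      have : (fun i => (a • w i).coeff m) = a • cf m w := rfl
      rw [this]
      exact (S m).smul_mem a (hw m).2
    | add a b ha hb =>
      intro w hw m
      rw [add_smul]
      refine ⟨by rw [map_add]; exact add_mem (ha w hw m).1 (hb w hw m).1, ?_⟩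
      have : cf m (a • w + b • w) = cf m (a • w) + cf m (b • w) := funext fun i => rfl
      rw [this]
      exact add_mem (ha w hw m).2 (hb w hw m).2
    | mul_X a j ih =>
      intro w hw m
      rw [mul_smul]
      refine ih _ (fun m => ?_) m
      rcases m with _ | m
      · refine ⟨by rw [hezero]; exact zero_mem _, ?_⟩
        rw [show cf 0 ((MvPolynomial.X j : P) • w) = 0 from funext fun i => hcf0 j w i]
        exact zero_mem _
      · refine ⟨by rw [hesucc]; exact G₀.smul_mem _ (hw m).1, ?_⟩
        rw [show cf (m + 1) ((MvPolynomial.X j : P) • w) = fun i => t i j • cf m w i from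
          funext fun i => hcfX j m w i]
        exact hmul m _ (hw m).2 j
  have hprops : ∀ w ∈ G₀, ∀ m, eW m w ∈ G₀ ∧ cf m w ∈ S m := by
    intro w hw
    induction hw using Submodule.span_induction with
    | mem w hw =>
      obtain ⟨q, hq, rfl⟩ := Finset.mem_image.1 (Finset.mem_coe.1 hw)
      intro m
      have hcfq : cf m (sgl q.1 q.2) = if q.1 = m then q.2 else 0 := funext fun i => by
        show (PolynomialModule.single (R i) q.1 (q.2 i)).coeff m = _
        rw [PolynomialModule.coeff_single, Finsupp.single_apply]
        split_ifs <;> rfl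
      refine ⟨?_, ?_⟩
      · show sgl m (cf m (sgl q.1 q.2)) ∈ G₀
        rw [hcfq]
        split_ifs with h
        · subst h; exact hgenmem q hq
        · rw [show sgl m (0 : ∀ i, M i) = 0 from funext fun i => PolynomialModule.single_zero m]
          exact zero_mem _
      · rw [hcfq]
        split_ifs with h
        · subst h; exact hT q hq
        · exact zero_mem _
    | zero =>
      intro m
      exact ⟨by rw [map_zero]; exact zero_mem _, by
        rw [show cf m (0 : W) = 0 from funext fun i => rfl]; exact zero_mem _⟩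
    | add a b _ _ ha hb =>
      intro m
      exact ⟨by rw [map_add]; exact add_mem (ha m).1 (hb m).1, by
        rw [show cf m (a + b) = cf m a + cf m b from funext fun i => rfl]
        exact add_mem (ha m).2 (hb m).2⟩
    | smul r a _ ha => exact key r a ha
  let e : ℕ → G₀ →ₗ[A] G₀ := fun m =>
    LinearMap.codRestrict (G₀.restrictScalars A) ((eW m).comp (G₀.subtype.restrictScalars A))
      fun g => (hprops g.1 g.2 m).1
  let ψ : ∀ i, G₀ →ₗ[A] M i := fun i =>
    ((PolynomialModule.eval (1 : R i)).restrictScalars A).comp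
      ((LinearMap.proj i).comp (G₀.subtype.restrictScalars A))
  have hψ : ∀ i m (g : G₀), e m g = g → ψ i g = cf m g.1 i := fun i m g hg => by
    show PolynomialModule.eval (1 : R i) (g.1 i) = _
    conv_lhs => rw [← hg]
    show PolynomialModule.eval (1 : R i) (PolynomialModule.single (R i) m (cf m g.1 i)) = _
    rw [PolynomialModule.eval_single, one_pow, one_smul]
  have hsmul : ∀ i j (g : G₀), ψ i ((MvPolynomial.X j : P) • g) = t i j • ψ i g := fun i j g => by
    show PolynomialModule.eval (1 : R i) ((MvPolynomial.X j : P) • g.1 i) =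
      t i j • PolynomialModule.eval (1 : R i) (g.1 i)
    induction g.1 i using PolynomialModule.induction_linear with
    | zero => simp
    | add a b ha hb => rw [smul_add, map_add, map_add, ha, hb, smul_add]
    | single k v => rw [hX, PolynomialModule.eval_single, PolynomialModule.eval_single, one_pow, one_pow, one_smul, one_smul]
  have hgrad : IsGrading n e := by
    refine ⟨fun m g => Subtype.ext ?_, fun m j g => Subtype.ext (hesucc m j g.1),
      fun j g => Subtype.ext (hezero j g.1), fun g => ?_⟩
    · show sgl m (cf m (sgl m (cf m g.1))) = sgl m (cf m g.1)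
      exact congrArg (sgl m) (funext fun i => by simp [cf, sgl])
    · refine ⟨(Finset.univ.sup fun i => (g.1 i).coeff.support.sup id) + 1, fun m hm => Subtype.ext ?_⟩
      funext i
      show PolynomialModule.single (R i) m ((g.1 i).coeff m) = 0
      rw [Finsupp.notMem_support_iff.1 fun hmem => ?_, PolynomialModule.single_zero]
      have h1 : m ≤ (g.1 i).coeff.support.sup id := Finset.le_sup (f := id) hmem
      have h2 := Finset.le_sup (f := fun i => (g.1 i).coeff.support.sup id) (Finset.mem_univ i)
      omega
  have hinj : ∀ m (g : G₀), e m g = g → (∀ i, ψ i g = 0) → g = 0 := fun m g hg h0 => by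
    rw [← hg]
    refine Subtype.ext (funext fun i => ?_)
    show PolynomialModule.single (R i) m (cf m g.1 i) = 0
    rw [← hψ i m g hg, h0 i, PolynomialModule.single_zero]
  have hXp : ∀ i k p (g : G₀), ψ k ((MvPolynomial.X i : P) ^ p • g) = t k i ^ p • ψ k g := by
    intro i k p
    induction p with
    | zero => simp
    | succ p ih => intro g; rw [pow_succ', mul_smul, hsmul, ih, smul_smul, ← pow_succ']
  have hep : ∀ i m p (g : G₀), e m g = g →
      e (m + p) ((MvPolynomial.X i : P) ^ p • g) = (MvPolynomial.X i : P) ^ p • g := by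
    intro i m p g hg
    have := LinearMap.congr_fun (hgrad.comp_xL_pow m p i) g
    rwa [LinearMap.comp_apply, LinearMap.comp_apply, xL_pow_apply, hg, xL_pow_apply] at this
  have hcharts : IsCharts n e ψ := by
    refine ⟨fun i g => by rw [hsmul, ht, one_smul], fun i m g hg h0 => ?_, fun i x => ?_⟩
    · obtain ⟨p, hp⟩ := hker m (cf m g.1) (hprops g.1 g.2 m).2 i ((hψ i m g hg).symm.trans h0)
      refine ⟨p, hinj (m + p) _ (hep i m p g hg) fun k => ?_⟩
      rw [hXp, hψ k m g hg]
      exact hp k
    · -- the image of the homogeneous elements is a module over the chart ring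
      let good : M i → Prop := fun y => ∃ m, ∀ m', m ≤ m' → ∃ g, e m' g = g ∧ ψ i g = y
      have hmk : ∀ m g, e m g = g → good (ψ i g) := fun m g hg => ⟨m, fun m' hm' => by
        refine ⟨(MvPolynomial.X i : P) ^ (m' - m) • g, ?_, by rw [hXp, ht, one_pow, one_smul]⟩
        have := hep i m (m' - m) g hg
        rwa [Nat.add_sub_cancel' hm'] at this⟩
      have hadd : ∀ y z, good y → good z → good (y + z) := by
        rintro y z ⟨a, ha⟩ ⟨b, hb⟩
        refine ⟨max a b, fun m' hm' => ?_⟩
        obtain ⟨g, hg, rfl⟩ := ha m' ((le_max_left _ _).trans hm')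
        obtain ⟨g', hg', rfl⟩ := hb m' ((le_max_right _ _).trans hm')
        exact ⟨g + g', by rw [map_add, hg, hg'], map_add _ _ _⟩
      have hzero : good 0 := ⟨0, fun m' _ => ⟨0, map_zero _, map_zero _⟩⟩
      have hA : ∀ (a : A) y, good y → good (a • y) := by
        rintro a y ⟨m, hm⟩
        refine ⟨m, fun m' hm' => ?_⟩
        obtain ⟨g, hg, rfl⟩ := hm m' hm'
        exact ⟨a • g, by rw [map_smul, hg], map_smul _ _ _⟩
      have ht' : ∀ j y, good y → good (t i j • y) := by
        rintro j y ⟨m, hm⟩
        obtain ⟨g, hg, rfl⟩ := hm m le_rfl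
        rw [← hsmul]
        exact hmk (m + 1) _ (by rw [hgrad.succ, hg])
      have hR : ∀ (r : R i) y, good y → good (r • y) := by
        intro r
        have hr : r ∈ Algebra.adjoin A (Set.range (t i)) := by rw [hgen]; trivial
        induction hr using Algebra.adjoin_induction with
        | mem r hr =>
          obtain ⟨j, rfl⟩ := hr
          exact ht' j
        | algebraMap a => intro y hy; rw [algebraMap_smul]; exact hA a y hy
        | add a b _ _ ha hb => intro y hy; rw [add_smul]; exact hadd _ _ (ha y hy) (hb y hy)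
        | mul a b _ _ ha hb => intro y hy; rw [mul_smul]; exact ha _ (hb y hy)
      have hx : x ∈ Submodule.span (R i) (s i : Set (M i)) := by rw [hs i]; trivial
      suffices good x by
        obtain ⟨m, hm⟩ := this
        exact ⟨m, hm m le_rfl⟩
      induction hx using Submodule.span_induction with
      | mem y hy =>
        have hq : ((dg i y, wg i y) : ℕ × ∀ i, M i) ∈ T := Finset.mem_union_right _
          (Finset.mem_biUnion.2 ⟨i, Finset.mem_univ i, Finset.mem_image.2 ⟨y, hy, rfl⟩⟩)
        have hg : e (dg i y) ⟨_, hgenmem _ hq⟩ = ⟨_, hgenmem _ hq⟩ := Subtype.ext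
          (congrArg (sgl _) (funext fun k => by simp [cf, sgl]))
        have := hmk _ _ hg
        rwa [hψ i _ _ hg, show cf (dg i y) (sgl (dg i y) (wg i y)) i = wg i y i by simp [cf, sgl],
          hwgi] at this
      | zero => exact hzero
      | add a b _ _ ha hb => exact hadd _ _ ha hb
      | smul r a _ ha => exact hR r a ha
  haveI : Module.Finite P G₀ := Module.Finite.iff_fg.2 (Submodule.fg_span (Finset.finite_toSet _))
  refine ⟨{ G := G₀, e := e, ψ := ψ, grading := hgrad, charts := hcharts, smul := hsmul, inj := hinj },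
    fun q hq => ?_, fun m g hg => ?_⟩
  swap
  · show (fun i => ψ i g) ∈ S m
    rw [show (fun i => ψ i g) = cf m g.1 from funext fun i => hψ i m g hg]
    exact (hprops g.1 g.2 m).2
  have hq' : q ∈ T := Finset.mem_union_left _ hq
  have hg : e q.1 ⟨_, hgenmem _ hq'⟩ = ⟨_, hgenmem _ hq'⟩ := Subtype.ext
    (congrArg (sgl _) (funext fun k => by simp [cf, sgl]))
  exact ⟨⟨_, hgenmem _ hq'⟩, hg, fun i => by
    show ψ i _ = _
    rw [hψ i _ _ hg]
    simp [cf, sgl]⟩

end Groth.Agent.Lib.FlatStrat53
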