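import Groth.Agent.Lib.FlatStrat53.FibreChi
import Groth.Agent.Lib.FlatStrat53.FibreDim
import Groth.Prelude.Def_FGA

/-!
# Dimension functions and Hilbert polynomials of the fibres
-/

set_option autoImplicit false
set_option linter.style.haveILetI false
set_option linter.style.show false

universe u

open CategoryTheory CategoryTheory.Limits AlgebraicGeometry TopologicalSpace

namespace Groth.Agent.Lib.FlatStrat53

open Groth.Agent.Lib TensorMod.Basic

variable {n : ℕ} {S : Scheme.{u}}

/-- The Euler characteristic of a twist of the restriction to the fibre at a point. -/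
noncomputable def chiFib (F : (CohB1.ProjSpaceOver n S).Modules) (s : (Over.mk (𝟙 S)).left) (m : ℤ) : ℤ :=
  FGA.eulerCharLE ((Over.mk (𝟙 S)).left.residueField s)
    (FGA.fibreAt (CohB1.ProjSpaceOver.toBase n S) (Over.mk (𝟙 S)) s).left
    (CohB1.tensorMod
      (FGA.restrFibre (CohB1.ProjSpaceOver.toBase n S) (Over.mk (𝟙 S)) s
        (FGA.ET (CohB1.ProjSpaceOver.toBase n S) F (Over.mk (𝟙 S))))
      (FGA.restrFibre (CohB1.ProjSpaceOver.toBase n S) (Over.mk (𝟙 S)) s
        (FGA.ET (CohB1.ProjSpaceOver.toBase n S) (Twist.twistOver n S m) (Over.mk (𝟙 S))))) n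

/-- The fibre Euler characteristics are computed on projective space over the residue field. -/
theorem chiFib_eq (F : (CohB1.ProjSpaceOver n S).Modules) (hF : Coh.IsCoh F) (s : S) (m : ℤ) :
    letI : (CohB1.ProjSpaceOver n (Spec (S.residueField s))).Over
        (Spec (CommRingCat.of (S.residueField s))) :=
      ⟨CohB1.ProjSpaceOver.toBase n (Spec (S.residueField s))⟩
    chiFib F s m = FGA.eulerCharLE (S.residueField s) (CohB1.ProjSpaceOver n (Spec (S.residueField s)))
      (CohB1.tensorMod (Fp F (S.fromSpecResidueField s))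
        (Twist.twistOver n (Spec (S.residueField s)) m)) n := by
  letI : (CohB1.ProjSpaceOver n (Spec (S.residueField s))).Over (Spec (CommRingCat.of (S.residueField s))) :=
    ⟨CohB1.ProjSpaceOver.toBase n (Spec (S.residueField s))⟩
  let p := CohB1.ProjSpaceOver.toBase n S
  let φ := S.fromSpecResidueField s
  let T₀ : Over S := Over.mk (𝟙 S)
  let P' := CohB1.ProjSpaceOver n (Spec (S.residueField s))
  let Xs := (FGA.fibreAt p T₀ s).left
  let g : Xs ⟶ CohB1.ProjSpaceOver n S :=
    pullback.fst (PicF.XTproj p T₀) (T₀.left.fromSpecResidueField s) ≫ pullback.fst p T₀.hom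
  have sq : IsPullback g (FGA.fibreAt p T₀ s).hom p φ := by
    have h := (IsPullback.of_hasPullback (PicF.XTproj p T₀) (T₀.left.fromSpecResidueField s)).paste_horiz
      (IsPullback.of_hasPullback p T₀.hom)
    have e : T₀.left.fromSpecResidueField s ≫ T₀.hom = φ := Category.comp_id _
    rw [e] at h
    exact h
  letI : Xs.Over (Spec (CommRingCat.of (S.residueField s))) := ⟨(FGA.fibreAt p T₀ s).hom⟩
  let ψ : P' ≅ Xs := (isPullback_projMap (n := n) φ).isoIsPullback _ _ sq
  have hψg : ψ.hom ≫ g = FGA.projMap n φ := IsPullback.isoIsPullback_hom_fst _ _ _ _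
  have hψ : ψ.hom ≫ (Xs ↘ Spec (CommRingCat.of (S.residueField s))) =
      P' ↘ Spec (CommRingCat.of (S.residueField s)) := IsPullback.isoIsPullback_hom_snd _ _ _ _
  haveI : CompactSpace Xs := by
    haveI : CompactSpace P' := QuasiCompact.compactSpace_of_compactSpace
      (CohB1.ProjSpaceOver.toBase n (Spec (S.residueField s)))
    exact ψ.hom.homeomorph.compactSpace
  haveI : IsProper (Xs ↘ Spec (CommRingCat.of (S.residueField s))) := by
    haveI : IsProper p := inferInstance
    exact MorphismProperty.of_isPullback sq inferInstance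
  haveI : QuasiSeparatedSpace Xs := quasiSeparatedSpace_of_quasiSeparated
    (Xs ↘ Spec (CommRingCat.of (S.residueField s)))
  let pbψ := Scheme.Modules.pullback ψ.hom
  let i1 := fun (L : (CohB1.ProjSpaceOver n S).Modules) =>
    (show pbψ.obj (FGA.restrFibre p T₀ s (FGA.ET p L T₀)) ≅ Fp L φ from
      pbψ.mapIso ((Scheme.Modules.pullbackComp _ _).app L) ≪≫ (Scheme.Modules.pullbackComp ψ.hom g).app L ≪≫
        (Scheme.Modules.pullbackCongr hψg).app L)
  let i2 : Fp (Twist.twistOver n S m) φ ≅ Twist.twistOver n (Spec (S.residueField s)) m :=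
    (Scheme.Modules.pullbackComp (FGA.projMap n φ) (toP₀ n S)).app _ ≪≫
      (Scheme.Modules.pullbackCongr (projMap_toP₀ φ)).app _
  let M := CohB1.tensorMod (FGA.restrFibre p T₀ s (FGA.ET p F T₀))
    (FGA.restrFibre p T₀ s (FGA.ET p (Twist.twistOver n S m) T₀))
  let e : pbψ.obj M ≅ CohB1.tensorMod (Fp F φ) (Twist.twistOver n (Spec (S.residueField s)) m) :=
    TensorMod.Pullback.pullbackTensorIso ψ.hom _ _ ≪≫ tensorIso (i1 F) (i1 _ ≪≫ i2)
  have hM : Coh.IsCoh M := by
    refine ProjCoh.Coherent.isCoh_tensorMod ?_ ?_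
    · exact Cyc.FP.Stalk.isCoh_pullback _ (Cyc.FP.Stalk.isCoh_pullback _ hF)
    · exact Cyc.FP.Stalk.isCoh_pullback _ (Cyc.FP.Stalk.isCoh_pullback _
        (Cyc.FP.Stalk.isCoh_pullback _ (ProjCoh.Coherent.isCoh_tw m)))
  haveI := hM.1
  show FGA.eulerCharLE (S.residueField s) Xs M n = _
  rw [← eulerCharLE_iso ψ hψ M n]
  exact Snapper.Chi.eulerCharLE_of_iso e n

variable (F : (CohB1.ProjSpaceOver n S).Modules) [F.IsQuasicoherent]
  [SheafOfModules.IsFiniteType (R := (CohB1.ProjSpaceOver n S).ringCatSheaf) F]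

/-- In large degree the dimensions of a model at a point are the values of the Hilbert polynomial. -/
theorem exists_dimS_eq_poly {U : S.Opens} (hU : IsAffineOpen U) (𝔐 : SheafModel F U)
    (hc : ∀ m g, 𝔐.e m g = g → (fun i => 𝔐.ψ i g) ∈ compat F U m) {M₀ : ℕ}
    (hgood : ∀ (K : Type u) [Field K] [Algebra Γ(S, U) K], GoodAt n 𝔐.e M₀ K) (s : S) (hs : s ∈ U) :
    ∃ (P : Polynomial ℚ) (m₁ : ℕ), (∀ m : ℤ, (chiFib F s m : ℚ) = P.eval (m : ℚ)) ∧
      ∀ m, m₁ ≤ m → P.eval (m : ℚ) = (dimS hU 𝔐 s hs m : ℚ) := by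
  have hF : Coh.IsCoh F := ⟨inferInstance, inferInstance⟩
  obtain ⟨P, m₀, hP, hP₀⟩ := exists_fibrePoly (S.residueField s) n (Fp F (S.fromSpecResidueField s))
    (Cyc.FP.Stalk.isCoh_pullback _ hF)
  obtain ⟨m₁, h₁⟩ := exists_dimS_eq_h0 F hU 𝔐 hc hgood s hs
  refine ⟨P, max m₀ m₁, fun m => ?_, fun m hm => ?_⟩
  · rw [chiFib_eq F hF s m]
    exact hP m
  · rw [h₁ m ((le_max_right _ _).trans hm)]
    exact hP₀ m ((le_max_left _ _).trans hm)

end Groth.Agent.Lib.FlatStrat53
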